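import Groth.Agent.AbSch.K297.LimHom

/-!
# Triples `(x, y, z)` with `p x * p y = p z`; symmetric cocycles with parameters

* `R p`, `rx`, `ry`, `rz`, `rl`: the scheme of triples;
* `PCoc A V p`: symmetric cocycles on `p : X ⟶ T` with values in `A` and parameters in `V`;
* `exists_stage`: a cocycle with parameters in a cofiltered limit comes from a stage.
-/

set_option autoImplicit false
set_option backward.isDefEq.respectTransparency false
universe u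
open CategoryTheory CategoryTheory.Limits MonoidalCategory CartesianMonoidalCategory MonObj AlgebraicGeometry Opposite

noncomputable section

namespace K297.Rel

open LimHom Groth.Agent.Sga3.H515.ParGrp Groth.Agent.Sga3.H515.StageExt

variable {S : Scheme.{u}}

section Triples

variable {T X : Over S} [GrpObj T] (p : X ⟶ T)

/-- The scheme of triples `(x, y, z)` with `p x * p y = p z`. -/
def R : Over S := pullback ((fst X X ≫ p) * (snd X X ≫ p)) p

/-- first member -/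
def rx : R p ⟶ X := pullback.fst _ _ ≫ fst X X

/-- second member -/
def ry : R p ⟶ X := pullback.fst _ _ ≫ snd X X

/-- third member -/
def rz : R p ⟶ X := pullback.snd _ _

lemma r_rel : (rx p ≫ p) * (ry p ≫ p) = rz p ≫ p := by
  have h := pullback.condition (f := (fst X X ≫ p) * (snd X X ≫ p)) (g := p)
  rw [MonObj.comp_mul, ← Category.assoc, ← Category.assoc] at h
  exact h

/-- The universal property. -/
def rl {W : Over S} (x y z : W ⟶ X) (h : (x ≫ p) * (y ≫ p) = z ≫ p) : W ⟶ R p :=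
  pullback.lift (lift x y) z (by
    rw [MonObj.comp_mul, ← Category.assoc, ← Category.assoc, lift_fst, lift_snd, h])

@[reassoc (attr := simp)] lemma rl_x {W : Over S} (x y z : W ⟶ X) (h : (x ≫ p) * (y ≫ p) = z ≫ p) :
    rl p x y z h ≫ rx p = x := by
  unfold rl rx
  rw [← Category.assoc, pullback.lift_fst, lift_fst]

@[reassoc (attr := simp)] lemma rl_y {W : Over S} (x y z : W ⟶ X) (h : (x ≫ p) * (y ≫ p) = z ≫ p) :
    rl p x y z h ≫ ry p = y := by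
  unfold rl ry
  rw [← Category.assoc, pullback.lift_fst, lift_snd]

@[reassoc (attr := simp)] lemma rl_z {W : Over S} (x y z : W ⟶ X) (h : (x ≫ p) * (y ≫ p) = z ≫ p) :
    rl p x y z h ≫ rz p = z := pullback.lift_snd _ _ _

lemma rl_ext {W : Over S} {a b : W ⟶ R p} (h1 : a ≫ rx p = b ≫ rx p) (h2 : a ≫ ry p = b ≫ ry p)
    (h3 : a ≫ rz p = b ≫ rz p) : a = b := by
  apply pullback.hom_ext
  · apply CartesianMonoidalCategory.hom_ext
    · rw [Category.assoc, Category.assoc]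
      exact h1
    · rw [Category.assoc, Category.assoc]
      exact h2
  · exact h3

lemma qcqs_R (hX : qcqs S X) (hT : QuasiSeparated T.hom) : qcqs S (R p) := by
  obtain ⟨h1, h2⟩ := hX
  obtain ⟨h3, h4⟩ := qcqs_tensor (S := S) (P := X) (P' := X) ⟨h1, h2⟩ ⟨h1, h2⟩
  have e1 : p.left ≫ T.hom = X.hom := Over.w p
  have h5 : QuasiCompact (p.left ≫ T.hom) := by rwa [e1]
  have h6 : QuasiSeparated (p.left ≫ T.hom) := by rwa [e1]
  have h7 : QuasiCompact p.left := QuasiCompact.of_comp p.left T.hom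
  have h8 : QuasiSeparated p.left := QuasiSeparated.of_comp p.left T.hom
  have hpb := (IsPullback.of_hasPullback ((fst X X ≫ p) * (snd X X ≫ p)) p).map (Over.forget S)
  let g : R p ⟶ X ⊗ X := pullback.fst ((fst X X ≫ p) * (snd X X ≫ p)) p
  have h9 : QuasiCompact g.left := MorphismProperty.of_isPullback hpb.flip h7
  have h10 : QuasiSeparated g.left := MorphismProperty.of_isPullback hpb.flip h8
  have e2 : g.left ≫ (X ⊗ X).hom = (R p).hom := Over.w g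
  constructor
  · rw [← e2]
    infer_instance
  · rw [← e2]
    infer_instance

/-- The scheme of sextuples `(x, y, z, u, v, w)` with `p x * p y = p u`, `p u * p z = p w`, `p y * p z = p v`. -/
def Q : Over S := pullback (rz p) (rx p)

/-- `(x, y, u)` -/
def q1 : Q p ⟶ R p := pullback.fst _ _

/-- `(u, z, w)` -/
def q2 : Q p ⟶ R p := pullback.snd _ _

lemma q_rel : q1 p ≫ rz p = q2 p ≫ rx p := pullback.condition

/-- The scheme of sextuples `(x, y, z, u, v, w)` with `p x * p y = p u`, `p u * p z = p w`, `p y * p z = p v`. -/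
def R2 : Over S := pullback (lift (q1 p ≫ ry p) (q2 p ≫ ry p) : Q p ⟶ X ⊗ X) (lift (rx p) (ry p) : R p ⟶ X ⊗ X)

/-- `(x, y, u)` -/
def s1 : R2 p ⟶ R p := pullback.fst _ _ ≫ q1 p

/-- `(u, z, w)` -/
def s2 : R2 p ⟶ R p := pullback.fst _ _ ≫ q2 p

/-- `(y, z, v)` -/
def s3 : R2 p ⟶ R p := pullback.snd _ _

lemma s12 : s1 p ≫ rz p = s2 p ≫ rx p := by
  unfold s1 s2
  rw [Category.assoc, q_rel, Category.assoc]

lemma s13 : s1 p ≫ ry p = s3 p ≫ rx p := by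
  have h := pullback.condition (f := (lift (q1 p ≫ ry p) (q2 p ≫ ry p) : Q p ⟶ X ⊗ X))
    (g := (lift (rx p) (ry p) : R p ⟶ X ⊗ X))
  have h1 := congr($h ≫ fst X X)
  simp only [Category.assoc, lift_fst] at h1
  unfold s1 s3
  rw [Category.assoc]
  exact h1

lemma s23 : s2 p ≫ ry p = s3 p ≫ ry p := by
  have h := pullback.condition (f := (lift (q1 p ≫ ry p) (q2 p ≫ ry p) : Q p ⟶ X ⊗ X))
    (g := (lift (rx p) (ry p) : R p ⟶ X ⊗ X))
  have h1 := congr($h ≫ snd X X)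
  simp only [Category.assoc, lift_snd] at h1
  unfold s2 s3
  rw [Category.assoc]
  exact h1

/-- The universal property. -/
lemma exists_r2 {W : Over S} (x y z u v w : W ⟶ X) (h₁ : (x ≫ p) * (y ≫ p) = u ≫ p)
    (h₂ : (u ≫ p) * (z ≫ p) = w ≫ p) (h₃ : (y ≫ p) * (z ≫ p) = v ≫ p) :
    ∃ ρ : W ⟶ R2 p, ρ ≫ s1 p = rl p x y u h₁ ∧ ρ ≫ s2 p = rl p u z w h₂ ∧ ρ ≫ s3 p = rl p y z v h₃ := by
  let κ : W ⟶ Q p := pullback.lift (rl p x y u h₁) (rl p u z w h₂) (by rw [rl_z, rl_x])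
  have hκ1 : κ ≫ q1 p = rl p x y u h₁ := pullback.lift_fst _ _ _
  have hκ2 : κ ≫ q2 p = rl p u z w h₂ := pullback.lift_snd _ _ _
  let ρ : W ⟶ R2 p := pullback.lift κ (rl p y z v h₃) (by
    rw [comp_lift, comp_lift, ← Category.assoc, hκ1, ← Category.assoc, hκ2, rl_x, rl_y, rl_y, rl_y])
  have hρ1 : ρ ≫ pullback.fst _ _ = κ := pullback.lift_fst _ _ _
  have hρ2 : ρ ≫ s3 p = rl p y z v h₃ := pullback.lift_snd _ _ _
  refine ⟨ρ, ?_, ?_, hρ2⟩
  · unfold s1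
    rw [← Category.assoc, hρ1, hκ1]
  · unfold s2
    rw [← Category.assoc, hρ1, hκ2]

/-- Fibre products of quasi-compact quasi-separated schemes. -/
lemma qcqs_pullback {P P' Z : Over S} (f : P ⟶ Z) (g : P' ⟶ Z) (hP : qcqs S P) (hP' : qcqs S P')
    (hZ : QuasiSeparated Z.hom) : qcqs S (pullback f g) := by
  obtain ⟨h1, h2⟩ := hP
  obtain ⟨h3, h4⟩ := hP'
  have e1 : g.left ≫ Z.hom = P'.hom := Over.w g
  have h5 : QuasiCompact (g.left ≫ Z.hom) := by rwa [e1]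
  have h6 : QuasiSeparated (g.left ≫ Z.hom) := by rwa [e1]
  have h7 : QuasiCompact g.left := QuasiCompact.of_comp g.left Z.hom
  have h8 : QuasiSeparated g.left := QuasiSeparated.of_comp g.left Z.hom
  have hpb := (IsPullback.of_hasPullback f g).map (Over.forget S)
  let a : pullback f g ⟶ P := pullback.fst f g
  have h9 : QuasiCompact a.left := MorphismProperty.of_isPullback hpb.flip h7
  have h10 : QuasiSeparated a.left := MorphismProperty.of_isPullback hpb.flip h8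
  have e2 : a.left ≫ P.hom = (pullback f g).hom := Over.w a
  constructor
  · rw [← e2]
    infer_instance
  · rw [← e2]
    infer_instance

lemma qcqs_R2 (hX : qcqs S X) (hT : QuasiSeparated T.hom) : qcqs S (R2 p) :=
  qcqs_pullback _ _ (qcqs_pullback _ _ (qcqs_R p hX hT) (qcqs_R p hX hT) hX.2) (qcqs_R p hX hT)
    (qcqs_tensor hX hX).2

end Triples

/-- Symmetric cocycles on `p : X ⟶ T` with values in `A` and parameters in `V`. -/
structure PCoc {T X : Over S} (A V : Over S) [GrpObj T] [GrpObj A] (p : X ⟶ T) where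
  b : ∀ {W : Over S} (t : W ⟶ V) (x y z : W ⟶ X), (x ≫ p) * (y ≫ p) = z ≫ p → (W ⟶ A)
  nat : ∀ {W W' : Over S} (k : W' ⟶ W) (t : W ⟶ V) (x y z : W ⟶ X) (h : (x ≫ p) * (y ≫ p) = z ≫ p)
    (h' : ((k ≫ x) ≫ p) * ((k ≫ y) ≫ p) = (k ≫ z) ≫ p),
    k ≫ b t x y z h = b (k ≫ t) (k ≫ x) (k ≫ y) (k ≫ z) h'
  symm : ∀ {W : Over S} (t : W ⟶ V) (x y z : W ⟶ X) (h : (x ≫ p) * (y ≫ p) = z ≫ p)
    (h' : (y ≫ p) * (x ≫ p) = z ≫ p), b t x y z h = b t y x z h'
  assoc : ∀ {W : Over S} (t : W ⟶ V) (x y z u v w : W ⟶ X) (h₁ : (x ≫ p) * (y ≫ p) = u ≫ p)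
    (h₂ : (u ≫ p) * (z ≫ p) = w ≫ p) (h₃ : (y ≫ p) * (z ≫ p) = v ≫ p) (h₄ : (x ≫ p) * (v ≫ p) = w ≫ p),
    b t x y u h₁ * b t u z w h₂ = b t y z v h₃ * b t x v w h₄

variable {T X A V V' : Over S} [GrpObj T] [GrpObj A] {p : X ⟶ T}

/-- `n` times the cocycle is a coboundary. -/
def PCoc.Sol (c : PCoc A V p) (n : ℕ) : Prop :=
  ∃ a : X ⊗ V ⟶ A, ∀ {W : Over S} (t : W ⟶ V) (x y z : W ⟶ X) (h : (x ≫ p) * (y ≫ p) = z ≫ p),
    ap a t x * ap a t y = ap a t z * c.b t x y z h ^ n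

/-- Restriction of a solution. -/
theorem PCoc.Sol.of_eq {c : PCoc A V p} {c' : PCoc A V' p} (s : V' ⟶ V)
    (hc : ∀ {W : Over S} (t : W ⟶ V') (x y z : W ⟶ X) (h : (x ≫ p) * (y ≫ p) = z ≫ p),
      c.b (t ≫ s) x y z h = c'.b t x y z h) {n : ℕ} (h : c.Sol n) : c'.Sol n := by
  obtain ⟨a, ha⟩ := h
  refine ⟨X ◁ s ≫ a, fun t x y z h => ?_⟩
  rw [res_ap, res_ap, res_ap, ha _ x y z h, hc]

/-- A cocycle from its universal value. -/
def PCoc.ofUniv [IsCommMonObj T] (b : R p ⊗ V ⟶ A) (hs : rl p (ry p) (rx p) (rz p) (by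
      rw [mul_comm]; exact r_rel p) ▷ V ≫ b = b)
    (ha : (s1 p ▷ V ≫ b) * (s2 p ▷ V ≫ b) = (s3 p ▷ V ≫ b) *
      (rl p (s1 p ≫ rx p) (s3 p ≫ rz p) (s2 p ≫ rz p) (by
        have h1 := congr(s1 p ≫ $(r_rel p))
        have h2 := congr(s2 p ≫ $(r_rel p))
        have h3 := congr(s3 p ≫ $(r_rel p))
        simp only [MonObj.comp_mul, ← Category.assoc] at h1 h2 h3
        rw [← h2, ← h3, ← s12, ← h1, ← s13, s23, _root_.mul_assoc]) ▷ V ≫ b)) : PCoc A V p where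
  b t x y z h := ap b t (rl p x y z h)
  nat k _ x y z h h' := by
    rw [comp_ap]
    congr 1
    apply rl_ext <;> simp
  symm t x y z h h' := by
    have e1 : lift (rl p y x z h') t ≫ (rl p (ry p) (rx p) (rz p) (by rw [mul_comm]; exact r_rel p) ▷ V ≫ b) =
        lift (rl p x y z h) t ≫ b := by
      rw [← Category.assoc]
      congr 1
      apply CartesianMonoidalCategory.hom_ext
      · rw [Category.assoc, whiskerRight_fst, ← Category.assoc, lift_fst, lift_fst]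
        apply rl_ext <;> simp
      · rw [Category.assoc, whiskerRight_snd, lift_snd, lift_snd]
    rw [hs] at e1
    exact e1.symm
  assoc t x y z u v w h₁ h₂ h₃ h₄ := by
    obtain ⟨ρ, hρ1, hρ2, hρ3⟩ := exists_r2 p x y z u v w h₁ h₂ h₃
    have e1 : ∀ (s : R2 p ⟶ R p), lift ρ t ≫ s ▷ V ≫ b = ap b t (ρ ≫ s) := by
      intro s
      rw [← Category.assoc, ap]
      congr 1
      apply CartesianMonoidalCategory.hom_ext
      · rw [Category.assoc, whiskerRight_fst, ← Category.assoc, lift_fst, lift_fst]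
      · rw [Category.assoc, whiskerRight_snd, lift_snd, lift_snd]
    have h5 := congr(lift ρ t ≫ $ha)
    rw [MonObj.comp_mul, MonObj.comp_mul, e1, e1, e1, e1, hρ1, hρ2, hρ3] at h5
    rw [h5]
    congr 2
    apply rl_ext
    · rw [Category.assoc, rl_x, ← Category.assoc, hρ1, rl_x, rl_x]
    · rw [Category.assoc, rl_y, ← Category.assoc, hρ3, rl_z, rl_y]
    · rw [Category.assoc, rl_z, ← Category.assoc, hρ2, rl_z, rl_z]

lemma PCoc.b_congr (c : PCoc A V p) {W : Over S} {t t' : W ⟶ V} {x x' y y' z z' : W ⟶ X}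
    (h : (x ≫ p) * (y ≫ p) = z ≫ p) (h' : (x' ≫ p) * (y' ≫ p) = z' ≫ p) (e1 : t = t') (e2 : x = x')
    (e3 : y = y') (e4 : z = z') : c.b t x y z h = c.b t' x' y' z' h' := by
  subst e1 e2 e3 e4
  rfl

lemma rel_comp {W P : Over S} (k : W ⟶ P) (s : P ⟶ R p) :
    ((k ≫ s ≫ rx p) ≫ p) * ((k ≫ s ≫ ry p) ≫ p) = (k ≫ s ≫ rz p) ≫ p := by
  have h := congr((k ≫ s) ≫ $(r_rel p))
  simp only [MonObj.comp_mul, Category.assoc] at h ⊢
  exact h

/-- The universal value. -/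
def PCoc.univ (c : PCoc A V p) : R p ⊗ V ⟶ A :=
  c.b (snd (R p) V) (fst _ _ ≫ 𝟙 _ ≫ rx p) (fst _ _ ≫ 𝟙 _ ≫ ry p) (fst _ _ ≫ 𝟙 _ ≫ rz p) (rel_comp _ _)

lemma PCoc.ap_univ (c : PCoc A V p) {W : Over S} (t : W ⟶ V) (x y z : W ⟶ X)
    (h : (x ≫ p) * (y ≫ p) = z ≫ p) : ap c.univ t (rl p x y z h) = c.b t x y z h := by
  unfold ap PCoc.univ
  have e1 : ∀ w : R p ⟶ X, lift (rl p x y z h) t ≫ fst (R p) V ≫ 𝟙 _ ≫ w = rl p x y z h ≫ w := by
    intro w
    rw [← Category.assoc, lift_fst, Category.id_comp]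
  rw [c.nat (lift (rl p x y z h) t) _ _ _ _ _ (by rw [e1, e1, e1, rl_x, rl_y, rl_z, h])]
  exact c.b_congr _ _ (lift_snd _ _) (by rw [e1, rl_x]) (by rw [e1, rl_y]) (by rw [e1, rl_z])

lemma PCoc.whisker_univ (c : PCoc A V p) {P : Over S} (s : P ⟶ R p) :
    s ▷ V ≫ c.univ = c.b (snd P V) (fst _ _ ≫ s ≫ rx p) (fst _ _ ≫ s ≫ ry p) (fst _ _ ≫ s ≫ rz p)
      (rel_comp _ _) := by
  rw [← c.ap_univ, ap]
  congr 1
  apply CartesianMonoidalCategory.hom_ext
  · rw [whiskerRight_fst, lift_fst]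
    apply rl_ext
    · rw [rl_x, Category.assoc]
    · rw [rl_y, Category.assoc]
    · rw [rl_z, Category.assoc]
  · rw [whiskerRight_snd, lift_snd]

/-- A cocycle with parameters in a cofiltered limit comes from a stage. -/
theorem exists_stage [IsCommMonObj T] [LocallyOfFinitePresentation A.hom] (hX : qcqs S X)
    (hT : QuasiSeparated T.hom) {J : Type u} [SmallCategory J] [IsCofiltered J] (F : J ⥤ Over S) (c : Cone F)
    [∀ {i j : J} (φ : i ⟶ j), IsAffineHom (F.map φ).left] [∀ j, CompactSpace (F.obj j).left]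
    [∀ j, QuasiSeparatedSpace (F.obj j).left] (hc : IsLimit ((Over.forget S).mapCone c))
    (γ : PCoc A c.pt p) : ∃ (j : J) (γ' : PCoc A (F.obj j) p), ∀ {W : Over S} (t : W ⟶ c.pt) (x y z : W ⟶ X)
      (h : (x ≫ p) * (y ≫ p) = z ≫ p), γ'.b (t ≫ c.π.app j) x y z h = γ.b t x y z h := by
  have hE : HasExt c (qcqs S) A := hasExt F c hc A
  have hU : HasUniq c (qcqs S) A := hasUniq F c hc A
  have hR : qcqs S (R p) := qcqs_R p hX hT
  obtain ⟨j, β, hβ⟩ := hE (R p) hR γ.univ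
  have e0 : ∀ {P : Over S} (s : P ⟶ R p), P ◁ c.π.app j ≫ s ▷ F.obj j ≫ β = s ▷ c.pt ≫ γ.univ := by
    intro P s
    rw [← Category.assoc, whisker_exchange, Category.assoc, hβ]
    rfl
  have hrel : ((ry p) ≫ p) * ((rx p) ≫ p) = (rz p) ≫ p := by rw [mul_comm]; exact r_rel p
  let σ : R p ⟶ R p := rl p (ry p) (rx p) (rz p) hrel
  have hrel4 : ((s1 p ≫ rx p) ≫ p) * ((s3 p ≫ rz p) ≫ p) = (s2 p ≫ rz p) ≫ p := by
    have h1 := congr(s1 p ≫ $(r_rel p))
    have h2 := congr(s2 p ≫ $(r_rel p))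
    have h3 := congr(s3 p ≫ $(r_rel p))
    simp only [MonObj.comp_mul, ← Category.assoc] at h1 h2 h3
    rw [← h2, ← h3, ← s12, ← h1, ← s13, s23, _root_.mul_assoc]
  let s4 : R2 p ⟶ R p := rl p (s1 p ≫ rx p) (s3 p ≫ rz p) (s2 p ≫ rz p) hrel4
  obtain ⟨k1, a1, h1⟩ := hU (R p) hR j (σ ▷ F.obj j ≫ β) β (by
    rw [e0, hβ, γ.whisker_univ]
    unfold PCoc.univ
    rw [γ.symm _ _ _ _ (rel_comp _ _) (by rw [mul_comm]; exact rel_comp _ _)]
    exact γ.b_congr _ _ rfl (by rw [rl_y, Category.id_comp]) (by rw [rl_x, Category.id_comp])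
      (by rw [rl_z, Category.id_comp]))
  obtain ⟨k2, a2, h2⟩ := hU (R2 p) (qcqs_R2 p hX hT) j
    ((s1 p ▷ F.obj j ≫ β) * (s2 p ▷ F.obj j ≫ β)) ((s3 p ▷ F.obj j ≫ β) * (s4 ▷ F.obj j ≫ β)) (by
    rw [MonObj.comp_mul, MonObj.comp_mul, e0, e0, e0, e0, γ.whisker_univ, γ.whisker_univ, γ.whisker_univ,
      γ.whisker_univ]
    have g1 : fst (R2 p) c.pt ≫ s2 p ≫ rx p = fst (R2 p) c.pt ≫ s1 p ≫ rz p := by rw [s12]
    have g3 : fst (R2 p) c.pt ≫ s3 p ≫ rx p = fst (R2 p) c.pt ≫ s1 p ≫ ry p := by rw [s13]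
    have g4 : fst (R2 p) c.pt ≫ s3 p ≫ ry p = fst (R2 p) c.pt ≫ s2 p ≫ ry p := by rw [s23]
    have r1 := rel_comp (fst (R2 p) c.pt) (s1 p)
    have r2 := rel_comp (fst (R2 p) c.pt) (s2 p)
    have r3 := rel_comp (fst (R2 p) c.pt) (s3 p)
    have r4 := rel_comp (fst (R2 p) c.pt) s4
    rw [g1] at r2
    rw [g3, g4] at r3
    have g5 : fst (R2 p) c.pt ≫ s4 ≫ rx p = fst (R2 p) c.pt ≫ s1 p ≫ rx p :=
      congrArg (fun w => fst (R2 p) c.pt ≫ w) (rl_x p _ _ _ hrel4)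
    have g6 : fst (R2 p) c.pt ≫ s4 ≫ ry p = fst (R2 p) c.pt ≫ s3 p ≫ rz p :=
      congrArg (fun w => fst (R2 p) c.pt ≫ w) (rl_y p _ _ _ hrel4)
    have g7 : fst (R2 p) c.pt ≫ s4 ≫ rz p = fst (R2 p) c.pt ≫ s2 p ≫ rz p :=
      congrArg (fun w => fst (R2 p) c.pt ≫ w) (rl_z p _ _ _ hrel4)
    rw [g5, g6, g7] at r4
    rw [γ.b_congr (rel_comp (fst (R2 p) c.pt) (s2 p)) r2 rfl g1 rfl rfl,
      γ.b_congr (rel_comp (fst (R2 p) c.pt) (s3 p)) r3 rfl g3 g4 rfl,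
      γ.b_congr (rel_comp (fst (R2 p) c.pt) s4) r4 rfl g5 g6 g7]
    exact γ.assoc _ _ _ _ _ _ _ r1 r2 r3 r4)
  obtain ⟨k, b1, b2, hb⟩ := IsCofiltered.cospan a1 a2
  have e1 : ∀ {P : Over S} (s : P ⟶ R p), s ▷ F.obj k ≫ R p ◁ F.map (b1 ≫ a1) ≫ β =
      P ◁ F.map (b1 ≫ a1) ≫ s ▷ F.obj j ≫ β := by
    intro P s
    rw [← Category.assoc, ← whisker_exchange, Category.assoc]
  have e2 : ∀ {P : Over S} {k' : J} (b : k ⟶ k') (a : k' ⟶ j) (g : P ⊗ F.obj j ⟶ A),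
      P ◁ F.map b ≫ P ◁ F.map a ≫ g = P ◁ F.map (b ≫ a) ≫ g := by
    intro P k' b a g
    rw [← Category.assoc, ← MonoidalCategory.whiskerLeft_comp, ← F.map_comp]
  refine ⟨k, PCoc.ofUniv (R p ◁ F.map (b1 ≫ a1) ≫ β) ?_ ?_, ?_⟩
  · rw [e1]
    have h3 := congr(R p ◁ F.map b1 ≫ $h1)
    rw [e2, e2] at h3
    exact h3
  · rw [e1, e1, e1, e1, ← MonObj.comp_mul, ← MonObj.comp_mul]
    have h3 := congr(R2 p ◁ F.map b2 ≫ $h2)
    rw [e2, e2, ← hb] at h3
    exact h3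
  · intro W t x y z h
    change ap (R p ◁ F.map (b1 ≫ a1) ≫ β) (t ≫ c.π.app k) (rl p x y z h) = _
    rw [res_ap, Category.assoc, c.w, ← γ.ap_univ, ← hβ, res_ap]

end K297.Rel
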