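import Groth.Agent.AbSch.K630.Coc
import Groth.Agent.AbSch.K297.Rel
import Groth.Agent.Sga3.H515.BcRaw
import Groth.Agent.Sga3B.BcIso

/-!
# Cocycles over a base change and cocycles with parameters

`f : S' ⟶ S`; `p₀ : X₀ ⟶ T₀`, `A₀` over `S` and `p : X ⟶ T`, `A` over `S'`.
* `Cmp f A₀ p₀ A p`: `p`, `A` are the base changes of `p₀`, `A₀`;
* `toP : Coc A p → PCoc A₀ (Over.mk f) p₀`, `toC` conversely; solutions correspond;
* `mapT`: composition with a monomorphism `T ⟶ T'` of groups;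
* `Cmp.comp`: transitivity.
-/

set_option autoImplicit false
set_option backward.isDefEq.respectTransparency false
universe u
open CategoryTheory CategoryTheory.Limits MonoidalCategory CartesianMonoidalCategory MonObj GrpObj AlgebraicGeometry Opposite

noncomputable section

namespace K297.BcCoc

open K297.Rel K630.AbExt Groth.Agent.Sga3.H515.ParGrp Groth.Agent.Sga3.H515.BcRaw Groth.Agent.Sga3B.BcPts

variable {S S' : Scheme.{u}} {f : S' ⟶ S}

section Points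

variable {G : Over S} {X : Over S'} (ε : Red.bc f G ≅ X)

/-- Points of `X` over `S'` are points of `G` over `S`. -/
def pe (W : Over S') : (W ⟶ X) ≃ ((Over.map f).obj W ⟶ G) where
  toFun x := (bcEquiv f W G).symm (x ≫ ε.inv)
  invFun a := bcEquiv f W G a ≫ ε.hom
  left_inv x := by simp
  right_inv a := by simp

lemma pe_comp {W W' : Over S'} (k : W' ⟶ W) (x : W ⟶ X) :
    pe ε W' (k ≫ x) = (Over.map f).map k ≫ pe ε W x := by
  change (bcEquiv f W' G).symm ((k ≫ x) ≫ ε.inv) = _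
  rw [Category.assoc, comp_bcEquiv_symm]
  rfl

lemma pe_symm_comp {W W' : Over S'} (k : W' ⟶ W) (a : (Over.map f).obj W ⟶ G) :
    (pe ε W').symm ((Over.map f).map k ≫ a) = k ≫ (pe ε W).symm a := by
  apply (pe ε W').injective
  rw [Equiv.apply_symm_apply, pe_comp, Equiv.apply_symm_apply]

lemma pe_mul [GrpObj G] [GrpObj X] [IsMonHom ε.hom] {W : Over S'} (x y : W ⟶ X) :
    pe ε W (x * y) = pe ε W x * pe ε W y := by
  change (bcEquiv f W G).symm ((x * y) ≫ ε.inv) = (bcEquiv f W G).symm _ * (bcEquiv f W G).symm _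
  rw [MonObj.mul_comp]
  exact (bcMulEquiv f W G).symm.map_mul _ _

lemma pe_pow [GrpObj G] [GrpObj X] [IsMonHom ε.hom] {W : Over S'} (x : W ⟶ X) (n : ℕ) :
    pe ε W (x ^ n) = pe ε W x ^ n := by
  change (bcEquiv f W G).symm ((x ^ n) ≫ ε.inv) = ((bcEquiv f W G).symm _) ^ n
  rw [MonObj.pow_comp]
  exact map_pow (bcMulEquiv f W G).symm _ _

/-- the equivalence for points with values in an `S`-scheme over `Over.mk f` -/
def pt' {Y : Over S} (t : Y ⟶ Over.mk f) : (Y ⟶ G) ≃ (Over.mk t.left ⟶ X) where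
  toFun a := (pe ε _).symm ((overIso t).hom ≫ a)
  invFun x := (overIso t).inv ≫ pe ε _ x
  left_inv a := by simp
  right_inv x := by simp

lemma pt'_comp {Y Y' : Over S} (h : Y' ⟶ Y) (t : Y ⟶ Over.mk f) (a : Y ⟶ G) :
    pt' ε (h ≫ t) (h ≫ a) = mkMap h t ≫ pt' ε t a := by
  change (pe ε _).symm ((overIso (h ≫ t)).hom ≫ h ≫ a) = mkMap h t ≫ (pe ε _).symm _
  rw [← Category.assoc, overIso_comp, Category.assoc, pe_symm_comp]

lemma pt'_symm_comp {Y Y' : Over S} (h : Y' ⟶ Y) (t : Y ⟶ Over.mk f) (x : Over.mk t.left ⟶ X) :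
    h ≫ (pt' ε t).symm x = (pt' ε (h ≫ t)).symm (mkMap h t ≫ x) := by
  apply (pt' ε (h ≫ t)).injective
  rw [pt'_comp, Equiv.apply_symm_apply, Equiv.apply_symm_apply]

lemma pt'_mul [GrpObj G] [GrpObj X] [IsMonHom ε.hom] {Y : Over S} (t : Y ⟶ Over.mk f) (a b : Y ⟶ G) :
    pt' ε t (a * b) = pt' ε t a * pt' ε t b := by
  apply (pe ε _).injective
  rw [pe_mul]
  change pe ε _ ((pe ε _).symm _) = pe ε _ ((pe ε _).symm _) * pe ε _ ((pe ε _).symm _)
  rw [Equiv.apply_symm_apply, Equiv.apply_symm_apply, Equiv.apply_symm_apply, MonObj.comp_mul]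

lemma pt'_symm_mul [GrpObj G] [GrpObj X] [IsMonHom ε.hom] {Y : Over S} (t : Y ⟶ Over.mk f)
    (a b : Over.mk t.left ⟶ X) : (pt' ε t).symm (a * b) = (pt' ε t).symm a * (pt' ε t).symm b := by
  apply (pt' ε t).injective
  rw [pt'_mul, Equiv.apply_symm_apply, Equiv.apply_symm_apply, Equiv.apply_symm_apply]

lemma pt'_symm_pow [GrpObj G] [GrpObj X] [IsMonHom ε.hom] {Y : Over S} (t : Y ⟶ Over.mk f)
    (a : Over.mk t.left ⟶ X) (n : ℕ) : (pt' ε t).symm (a ^ n) = (pt' ε t).symm a ^ n := by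
  change (overIso t).inv ≫ pe ε _ (a ^ n) = ((overIso t).inv ≫ pe ε _ a) ^ n
  rw [pe_pow, MonObj.comp_pow]

/-- the tautological point -/
lemma pt'_tPt {W : Over S'} (a : (Over.map f).obj W ⟶ G) : pt' ε (tPt f W) a = (pe ε W).symm a := by
  change (pe ε W).symm (𝟙 _ ≫ a) = _
  rw [Category.id_comp]

end Points

/-- `p`, `A` are the base changes of `p₀`, `A₀`. -/
structure Cmp (f : S' ⟶ S) {T₀ X₀ : Over S} (A₀ : Over S) [GrpObj T₀] [GrpObj A₀] (p₀ : X₀ ⟶ T₀)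
    {T X : Over S'} (A : Over S') [GrpObj T] [GrpObj A] (p : X ⟶ T) where
  eA : Red.bc f A₀ ≅ A
  eX : Red.bc f X₀ ≅ X
  eT : Red.bc f T₀ ≅ T
  [monA : IsMonHom eA.hom]
  [monT : IsMonHom eT.hom]
  w : (Over.pullback f).map p₀ ≫ eT.hom = eX.hom ≫ p

attribute [instance] Cmp.monA Cmp.monT

section

variable {T₀ X₀ A₀ : Over S} [GrpObj T₀] [GrpObj A₀] {p₀ : X₀ ⟶ T₀} {T X A : Over S'} [GrpObj T] [GrpObj A]
  {p : X ⟶ T} (m : Cmp f A₀ p₀ A p)

namespace Cmp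

lemma w' : m.eX.inv ≫ (Over.pullback f).map p₀ = p ≫ m.eT.inv := by
  rw [Iso.inv_comp_eq, ← Category.assoc, ← m.w, Category.assoc, Iso.hom_inv_id, Category.comp_id]

lemma pe_p {W : Over S'} (x : W ⟶ X) : pe m.eT W (x ≫ p) = pe m.eX W x ≫ p₀ := by
  change (bcEquiv f W T₀).symm ((x ≫ p) ≫ m.eT.inv) = (bcEquiv f W X₀).symm (x ≫ m.eX.inv) ≫ p₀
  rw [← bcEquiv_symm_comp, Category.assoc, Category.assoc, m.w']

lemma pt'_p {Y : Over S} (t : Y ⟶ Over.mk f) (x : Y ⟶ X₀) : pt' m.eX t x ≫ p = pt' m.eT t (x ≫ p₀) := by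
  apply (pe m.eT _).injective
  rw [m.pe_p]
  change pe m.eX _ ((pe m.eX _).symm _) ≫ p₀ = pe m.eT _ ((pe m.eT _).symm _)
  rw [Equiv.apply_symm_apply, Equiv.apply_symm_apply, Category.assoc]

lemma rel_pt' {Y : Over S} (t : Y ⟶ Over.mk f) {x y z : Y ⟶ X₀} (h : (x ≫ p₀) * (y ≫ p₀) = z ≫ p₀) :
    (pt' m.eX t x ≫ p) * (pt' m.eX t y ≫ p) = pt' m.eX t z ≫ p := by
  rw [m.pt'_p, m.pt'_p, m.pt'_p, ← pt'_mul, h]

lemma rel_pe {W : Over S'} {x y z : W ⟶ X} (h : (x ≫ p) * (y ≫ p) = z ≫ p) :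
    (pe m.eX W x ≫ p₀) * (pe m.eX W y ≫ p₀) = pe m.eX W z ≫ p₀ := by
  rw [← m.pe_p, ← m.pe_p, ← m.pe_p, ← pe_mul, h]

end Cmp

lemma coc_congr {p : X ⟶ T} (c : Coc A p) {W : Over S'} {x x' y y' z z' : W ⟶ X}
    (h : (x ≫ p) * (y ≫ p) = z ≫ p) (h' : (x' ≫ p) * (y' ≫ p) = z' ≫ p) (e2 : x = x')
    (e3 : y = y') (e4 : z = z') : c.b x y z h = c.b x' y' z' h' := by
  subst e2 e3 e4
  rfl

namespace Cmp

/-- From a cocycle over `S'` to a cocycle over `S` with parameters in `S'`. -/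
def toP (c : Coc A p) : PCoc A₀ (Over.mk f) p₀ where
  b t x y z h := (pt' m.eA t).symm (c.b (pt' m.eX t x) (pt' m.eX t y) (pt' m.eX t z) (m.rel_pt' t h))
  nat k t x y z h h' := by
    rw [pt'_symm_comp]
    congr 1
    rw [c.nat (mkMap k t) _ _ _ _ (by rw [← pt'_comp, ← pt'_comp, ← pt'_comp]; exact m.rel_pt' _ h')]
    exact coc_congr c _ _ (pt'_comp _ _ _ _).symm (pt'_comp _ _ _ _).symm (pt'_comp _ _ _ _).symm
  symm t x y z h h' := by
    congr 1
    exact c.symm _ _ _ _ _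
  assoc t x y z u v w h₁ h₂ h₃ h₄ := by
    rw [← pt'_symm_mul, ← pt'_symm_mul]
    congr 1
    exact c.assoc _ _ _ _ _ _ _ _ _ _

/-- From a cocycle over `S` with parameters in `S'` to a cocycle over `S'`. -/
def toC (c : PCoc A₀ (Over.mk f) p₀) : Coc A p where
  b {W} x y z h := (pe m.eA W).symm (c.b (tPt f W) (pe m.eX W x) (pe m.eX W y) (pe m.eX W z) (m.rel_pe h))
  nat {W W'} k x y z h h' := by
    rw [← pe_symm_comp]
    congr 1
    have e1 := m.rel_pe h'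
    rw [pe_comp, pe_comp, pe_comp] at e1
    rw [c.nat _ _ _ _ _ _ e1]
    exact c.b_congr _ _ (map_tPt _) (pe_comp _ _ _).symm (pe_comp _ _ _).symm (pe_comp _ _ _).symm
  symm x y z h h' := by
    congr 1
    exact c.symm _ _ _ _ _ _
  assoc {W} x y z u v w h₁ h₂ h₃ h₄ := by
    apply (pe m.eA W).injective
    rw [pe_mul, pe_mul, Equiv.apply_symm_apply, Equiv.apply_symm_apply, Equiv.apply_symm_apply,
      Equiv.apply_symm_apply]
    exact c.assoc _ _ _ _ _ _ _ _ _ _ _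

/-- Solutions over `S` with parameters give solutions over `S'`. -/
theorem sol_of_toP (c : Coc A p) {n : ℕ} (h : (m.toP c).Sol n) : c.Sol n := by
  obtain ⟨a, ha⟩ := h
  let a' : X ⟶ A := (pe m.eA X).symm (ap a (tPt f X) (pe m.eX X (𝟙 X)))
  have h1 : ∀ {W : Over S'} (x : W ⟶ X), pe m.eA W (x ≫ a') = ap a (tPt f W) (pe m.eX W x) := by
    intro W x
    rw [pe_comp, Equiv.apply_symm_apply, comp_ap, map_tPt, ← pe_comp, Category.comp_id]
  refine ⟨a', fun {W} x y z h => ?_⟩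
  apply (pe m.eA W).injective
  rw [pe_mul, pe_mul, pe_pow, h1, h1, h1, ha (tPt f W) _ _ _ (m.rel_pe h)]
  congr 2
  apply (pt' m.eA (tPt f W)).injective
  refine (Equiv.apply_symm_apply _ _).trans ?_
  refine Eq.trans ?_ ((pt'_tPt _ _).trans (Equiv.symm_apply_apply _ _)).symm
  exact coc_congr c _ _ ((pt'_tPt _ _).trans (Equiv.symm_apply_apply _ _))
    ((pt'_tPt _ _).trans (Equiv.symm_apply_apply _ _)) ((pt'_tPt _ _).trans (Equiv.symm_apply_apply _ _))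

/-- Solutions over `S'` give solutions over `S` with parameters. -/
theorem sol_of_toC (c : PCoc A₀ (Over.mk f) p₀) {n : ℕ} (h : (m.toC c).Sol n) : c.Sol n := by
  obtain ⟨a, ha⟩ := h
  let a' : X₀ ⊗ Over.mk f ⟶ A₀ := (pt' m.eA (snd _ _)).symm (pt' m.eX (snd _ _) (fst _ _) ≫ a)
  have h1 : ∀ {Y : Over S} (t : Y ⟶ Over.mk f) (x : Y ⟶ X₀), ap a' t x = (pt' m.eA t).symm (pt' m.eX t x ≫ a) := by
    intro Y t x
    have e1 := pt'_comp m.eX (lift x t) (snd X₀ (Over.mk f)) (fst _ _)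
    rw [ap, pt'_symm_comp, ← Category.assoc, ← e1]
    simp only [lift_fst]
    have e0 := lift_snd x t
    clear e1
    generalize lift x t ≫ snd X₀ (Over.mk f) = t' at e0 ⊢
    subst e0
    rfl
  refine ⟨a', fun {Y} t x y z h => ?_⟩
  rw [h1, h1, h1]
  have h2 := ha (pt' m.eX t x) (pt' m.eX t y) (pt' m.eX t z) (m.rel_pt' t h)
  rw [← pt'_symm_mul, h2, pt'_symm_mul, pt'_symm_pow]
  congr 2
  change (overIso t).inv ≫ pe m.eA _ ((pe m.eA _).symm _) = _
  rw [Equiv.apply_symm_apply]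
  have e3 : ∀ x : Y ⟶ X₀, (overIso t).inv ≫ pe m.eX _ (pt' m.eX t x) = x := by
    intro x
    change (overIso t).inv ≫ pe m.eX _ ((pe m.eX _).symm _) = x
    rw [Equiv.apply_symm_apply, Iso.inv_hom_id_assoc]
  rw [c.nat _ _ _ _ _ _ (by rw [e3, e3, e3, h])]
  refine c.b_congr _ _ ?_ (e3 x) (e3 y) (e3 z)
  ext1
  rw [Over.comp_left, overIso_inv_left, Category.id_comp]
  rfl

end Cmp

/-- Composition with a monomorphism of groups. -/
def mapT {T' : Over S'} [GrpObj T'] (c : Coc A p) (e : T ⟶ T') [IsMonHom e] [Mono e] : Coc A (p ≫ e) where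
  b x y z h := c.b x y z (by
    rw [← cancel_mono e, MonObj.mul_comp]
    simpa only [Category.assoc] using h)
  nat k x y z h h' := c.nat _ _ _ _ _ _
  symm x y z h h' := c.symm _ _ _ _ _
  assoc x y z u v w h₁ h₂ h₃ h₄ := c.assoc _ _ _ _ _ _ _ _ _ (by
    rw [← cancel_mono e, MonObj.mul_comp]
    simpa only [Category.assoc] using h₄)

theorem sol_of_mapT {T' : Over S'} [GrpObj T'] (c : Coc A p) (e : T ⟶ T') [IsMonHom e] [Mono e] {n : ℕ}
    (h : (mapT c e).Sol n) : c.Sol n := by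
  obtain ⟨a, ha⟩ := h
  exact ⟨a, fun x y z h => ha x y z (by
    have h1 := congr($h ≫ e)
    rw [MonObj.mul_comp] at h1
    simpa only [Category.assoc] using h1)⟩

end

end K297.BcCoc
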