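import Groth.Agent.Sga3.H515.StageExt
import Groth.Agent.Ega43.LimitDescend
import Groth.Agent.PicF.K248.StalkLim

/-!
# Morphisms with parameters over a cofiltered limit of schemes over a base

`F : J ⥤ Over B` a cofiltered diagram of quasi-compact quasi-separated `B`-schemes with affine transition
maps, `c` a cone over `F` which is a limit of schemes.
* `hasExt`: morphisms `P ⊗ c.pt ⟶ G`, `P` qcqs, `G` locally of finite presentation, come from a stage;
* `hasUniq`: uniqueness;
* `nhdF`, `nhdC`, `isLimitNhdC`: `Spec 𝒪_{S,s}` as the limit of the affine neighbourhoods of `s` over `S`.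
-/

set_option autoImplicit false
set_option backward.isDefEq.respectTransparency false
universe u
open CategoryTheory MonoidalCategory CartesianMonoidalCategory AlgebraicGeometry Limits

namespace K297.LimHom

open Groth.Agent.Sga3.H515.ParGrp Groth.Agent.Sga3.H515.StageExt Groth.Agent.Ega43.LimitDescend

variable {B : Scheme.{u}} {J : Type u} [SmallCategory J] [IsCofiltered J] (F : J ⥤ Over B) (c : Cone F)

/-- the transition maps of the underlying schemes -/
noncomputable abbrev E : J ⥤ Scheme.{u} := F ⋙ Over.forget B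

/-- the structure morphisms -/
noncomputable abbrev tt (j : J) : (E F).obj j ⟶ B := (F.obj j).hom

omit [IsCofiltered J] in
lemma ht {i j : J} (φ : i ⟶ j) : (E F).map φ ≫ tt F j = tt F i := Over.w (F.map φ)

variable [∀ {i j : J} (φ : i ⟶ j), IsAffineHom (F.map φ).left] [∀ j, CompactSpace (F.obj j).left]
  [∀ j, QuasiSeparatedSpace (F.obj j).left]

/-- Existence. -/
theorem hasExt (hc : IsLimit ((Over.forget B).mapCone c)) (G : Over B) [LocallyOfFinitePresentation G.hom] :
    HasExt c (qcqs B) G := by
  rintro P ⟨hP1, hP2⟩ f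
  have i1 : ∀ {i j : J} (φ : i ⟶ j), IsAffineHom ((E F).map φ) := fun φ =>
    inferInstanceAs (IsAffineHom (F.map φ).left)
  have i2 : ∀ j, CompactSpace ((E F).obj j) := fun j => inferInstanceAs (CompactSpace (F.obj j).left)
  have i3 : ∀ j, QuasiSeparatedSpace ((E F).obj j) := fun j =>
    inferInstanceAs (QuasiSeparatedSpace (F.obj j).left)
  have hp : ∀ j, ((Over.forget B).mapCone c).π.app j ≫ tt F j = c.pt.hom := fun j => Over.w (c.π.app j)
  have hX : IsPullback (pullback.fst P.hom c.pt.hom) (pullback.snd P.hom c.pt.hom) P.hom c.pt.hom :=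
    .of_hasPullback _ _
  let t : pbDiagram (tt F) (ht F) P.hom ⟶ (Functor.const J).obj B :=
    { app := fun j => pullback.fst _ _ ≫ P.hom
      naturality := fun j k a => by simp }
  have hf : f.left ≫ G.hom = pullback.fst P.hom c.pt.hom ≫ P.hom := Over.w f
  obtain ⟨j, g, hg1, hg2⟩ := Scheme.exists_π_app_comp_eq_of_locallyOfFinitePresentation
    (pbDiagram (tt F) (ht F) P.hom) t G.hom
    (pbCone (tt F) (ht F) P.hom ((Over.forget B).mapCone c) c.pt.hom hp _ _ hX)
    (isLimitPbCone (tt F) (ht F) P.hom ((Over.forget B).mapCone c) c.pt.hom hp _ _ hX hc) f.left (by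
      ext j
      simp only [NatTrans.comp_app, pbCone_π_app, Functor.const_obj_obj, Functor.const_map_app, t]
      rw [pullback.lift_fst_assoc]
      exact hf.symm)
  refine ⟨j, Over.homMk g hg2, ?_⟩
  ext1
  rw [Over.comp_left]
  refine Eq.trans ?_ hg1
  change _ ≫ g = _ ≫ g
  congr 1

omit [∀ j, QuasiSeparatedSpace (F.obj j).left] in
/-- Uniqueness. -/
theorem hasUniq (hc : IsLimit ((Over.forget B).mapCone c)) (G : Over B) [LocallyOfFiniteType G.hom] :
    HasUniq c (qcqs B) G := by
  rintro P ⟨hP1, hP2⟩ j₀ g g' hgg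
  have i1 : ∀ {i j : J} (φ : i ⟶ j), IsAffineHom ((E F).map φ) := fun φ =>
    inferInstanceAs (IsAffineHom (F.map φ).left)
  have i2 : ∀ j, CompactSpace ((E F).obj j) := fun j => inferInstanceAs (CompactSpace (F.obj j).left)
  have hp : ∀ j, ((Over.forget B).mapCone c).π.app j ≫ tt F j = c.pt.hom := fun j => Over.w (c.π.app j)
  have hX : IsPullback (pullback.fst P.hom c.pt.hom) (pullback.snd P.hom c.pt.hom) P.hom c.pt.hom :=
    .of_hasPullback _ _
  let t : pbDiagram (tt F) (ht F) P.hom ⟶ (Functor.const J).obj B :=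
    { app := fun j => pullback.fst _ _ ≫ P.hom
      naturality := fun j k a => by simp }
  have hw1 : g.left ≫ G.hom = pullback.fst P.hom (F.obj j₀).hom ≫ P.hom := Over.w g
  have hw2 : g'.left ≫ G.hom = pullback.fst P.hom (F.obj j₀).hom ≫ P.hom := Over.w g'
  have e : (P ◁ c.π.app j₀).left =
      (pbCone (tt F) (ht F) P.hom ((Over.forget B).mapCone c) c.pt.hom hp _ _ hX).π.app j₀ := by
    apply pullback.hom_ext
    · exact (Over.whiskerLeft_left_fst _).trans (pullback.lift_fst _ _ _).symm
    · exact (Over.whiskerLeft_left_snd _).trans (pullback.lift_snd _ _ _).symm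
  obtain ⟨k, a, hk⟩ := Scheme.exists_hom_comp_eq_comp_of_locallyOfFiniteType
    (pbDiagram (tt F) (ht F) P.hom) t G.hom
    (pbCone (tt F) (ht F) P.hom ((Over.forget B).mapCone c) c.pt.hom hp _ _ hX)
    (isLimitPbCone (tt F) (ht F) P.hom ((Over.forget B).mapCone c) c.pt.hom hp _ _ hX hc) (i := j₀)
    g.left g'.left hw1.symm hw2.symm (by
      rw [← e]
      exact congr($(hgg).left))
  refine ⟨k, a, ?_⟩
  ext1
  have e2 : (P ◁ F.map a).left = (pbDiagram (tt F) (ht F) P.hom).map a := by
    apply pullback.hom_ext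
    · exact (Over.whiskerLeft_left_fst _).trans (pullback.lift_fst _ _ _).symm
    · exact (Over.whiskerLeft_left_snd _).trans (pullback.lift_snd _ _ _).symm
  rw [Over.comp_left, Over.comp_left, e2]
  exact hk

section Nhd

open K248.StalkLim

variable (S : Scheme.{u}) (s : S)

/-- The affine neighbourhoods of a point as schemes over `S`. -/
noncomputable def nhdF : Nhd S s ⥤ Over S where
  obj V := Over.mk (Scheme.Opens.ι V.1)
  map {V W} h := Over.homMk (S.homOfLE (U := V.1) (V := W.1) h.le) (by simp)
  map_id _ := by ext1; simp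
  map_comp _ _ := by ext1; simp

/-- The local scheme at `s` over the affine neighbourhoods. -/
noncomputable def nhdC : Cone (nhdF S s) where
  pt := Over.mk (S.fromSpecStalk s)
  π :=
    { app V := Over.homMk (leg S s V) (leg_ι S s V)
      naturality V W h := by
        ext1
        exact (cone S s).π.naturality h }

/-- It is a limit of schemes. -/
noncomputable def isLimitNhdC : IsLimit ((Over.forget S).mapCone (nhdC S s)) :=
  (K248.StalkLim.isLimit S s)

end Nhd

end K297.LimHom
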