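import Groth.Agent.AbSch.K297.Stage
import Groth.Agent.ConsPropPair.K286.Desc
import Groth.Agent.AbSch.K448.PointedHom
import Groth.Agent.AbSch.K448.SmoothConn

/-!
# Noetherian models of (abelian scheme, smooth cover of `𝔾_m`, symmetric cocycle)
-/

set_option autoImplicit false
set_option backward.isDefEq.respectTransparency false
universe u
open CategoryTheory CategoryTheory.Limits MonoidalCategory CartesianMonoidalCategory MonObj GrpObj AlgebraicGeometry Opposite

noncomputable section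

namespace K297.Noeth

open Groth.Agent Groth.Agent.Sga3.H515 K297.Rel K297.BcCoc K630.AbExt ParGrp BcRaw StageExt GrpStage GrpModel Sga3B.BcPts
  Ega43.LimitDescend Ega43.LimitDescendIso K297.Stage Flat2D.SpecFGLimit

/-- `𝔾_m` commutes with base change. -/
def gmIso {S S' : Scheme.{u}} (f : S' ⟶ S) : Red.bc f (Red.Gm S) ≅ Red.Gm S' :=
  theta f (Limits.IsTerminal.from specULiftZIsTerminal S') (specULiftZIsTerminal.hom_ext _ _)
    (Red.diag (ULift.{u} ℤ) ℤ)

instance isMonHom_gmIso {S S' : Scheme.{u}} (f : S' ⟶ S) : IsMonHom (gmIso f).hom :=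
  isMonHom_theta f _ _ _

/-- Change of the target of a model by an isomorphism of groups. -/
def changeT {S S' : Scheme.{u}} {f : S' ⟶ S} {T₀ X₀ A₀ T₁ : Over S} [GrpObj T₀] [GrpObj A₀] [GrpObj T₁]
    {p₀ : X₀ ⟶ T₀} {T X A : Over S'} [GrpObj T] [GrpObj A] {p : X ⟶ T} (m : Cmp f A₀ p₀ A p) (e : T₀ ≅ T₁)
    [IsMonHom e.hom] : Cmp f A₀ (p₀ ≫ e.hom) A p where
  eA := m.eA
  eX := m.eX
  eT := (Over.pullback f).mapIso e.symm ≪≫ m.eT
  monA := m.monA
  monT := by
    rw [Iso.trans_hom, Functor.mapIso_hom, Iso.symm_hom]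
    infer_instance
  w := by
    rw [Iso.trans_hom, Functor.mapIso_hom, Iso.symm_hom, Functor.map_comp, Category.assoc, ← Category.assoc _ _ m.eT.hom,
      ← Functor.map_comp, e.hom_inv_id, CategoryTheory.Functor.map_id, Category.id_comp, m.w]

section Stage

variable {I : Type u} [SmallCategory I] {D : I ⥤ Scheme.{u}} {c : Cone D} {i : I}

variable [IsCofiltered I] [∀ (i j : I) (f : i ⟶ j), IsAffineHom (D.map f)]
    [∀ i, CompactSpace (D.obj i)] [∀ i, QuasiSeparatedSpace (D.obj i)]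

/-- The morphism `p` descends. -/
theorem exists_p (hc : IsLimit c) {T X A : Over c.pt} [GrpObj T] [GrpObj A] (p : X ⟶ T)
    {A₀ X₀ T₀ : Over (D.obj i)} [GrpObj A₀] [GrpObj T₀] (εA : Red.bc (c.π.app i) A₀ ≅ A) [IsMonHom εA.hom]
    (εX : Red.bc (c.π.app i) X₀ ≅ X) (εT : Red.bc (c.π.app i) T₀ ≅ T) [IsMonHom εT.hom]
    [QuasiCompact X₀.hom] [QuasiSeparated X₀.hom] [LocallyOfFinitePresentation T₀.hom] :
    ∃ (j : Over i) (p₁ : Red.bc (D.map j.hom) X₀ ⟶ Red.bc (D.map j.hom) T₀),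
      Nonempty (Cmp (c.π.app j.left) (Red.bc (D.map j.hom) A₀) p₁ A p) := by
  have hX₀ : qcqs (D.obj i) X₀ := ⟨inferInstance, inferInstance⟩
  obtain ⟨j, v, hv⟩ := hasExt i c hc T₀ X₀ hX₀ (famOf εX εT p)
  have h1 := isMonHom_theta (c.π.app j.left) (c.π.app i) (c.w j.hom) A₀
  have h2 := isMonHom_theta (c.π.app j.left) (c.π.app i) (c.w j.hom) T₀
  exact ⟨j, homOf v, ⟨{
    eA := theta (c.π.app j.left) (c.π.app i) (c.w j.hom) A₀ ≪≫ εA
    eX := theta (c.π.app j.left) (c.π.app i) (c.w j.hom) X₀ ≪≫ εX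
    eT := theta (c.π.app j.left) (c.π.app i) (c.w j.hom) T₀ ≪≫ εT
    monA := by rw [Iso.trans_hom]; infer_instance
    monT := by rw [Iso.trans_hom]; infer_instance
    w := map_homOf_comp (c.π.app j.left) (c.π.app i) (c.w j.hom) εX εT (pr c j) rfl p v hv }⟩⟩

end Stage

/-- Initial models. -/
theorem exists_init {Λ : Type u} [CommRing Λ] (A : Over (Spec (CommRingCat.of Λ))) [GrpObj A]
    [Smooth A.hom] [IsProper A.hom] (X : Over (Spec (CommRingCat.of Λ))) [LocallyOfFinitePresentation X.hom]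
    [QuasiCompact X.hom] [QuasiSeparated X.hom] :
    ∃ (i : (FGSub Λ)ᵒᵖ) (A₀ X₀ : Over ((specDiagram Λ).obj i)) (_ : GrpObj A₀)
      (εA : Red.bc ((cone Λ).π.app i) A₀ ≅ A) (_ : Red.bc ((cone Λ).π.app i) X₀ ≅ X),
      IsMonHom εA.hom ∧ Smooth A₀.hom ∧ IsProper A₀.hom ∧ LocallyOfFinitePresentation X₀.hom ∧
        QuasiCompact X₀.hom ∧ QuasiSeparated X₀.hom := by
  let P2 : Fin 2 → MorphismProperty Scheme.{u} := ![@Smooth, @IsProper]
  have hP2 : ∀ a, DescendsLim (P2 a) := by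
    intro a
    fin_cases a
    · exact LimSmooth.descendsLim_smooth
    · exact K286.Desc.descendsLim_isProper
  have hP2' : ∀ a, (P2 a).IsStableUnderBaseChange := by
    intro a
    fin_cases a
    · exact inferInstanceAs (MorphismProperty.IsStableUnderBaseChange @Smooth)
    · exact inferInstanceAs (MorphismProperty.IsStableUnderBaseChange @IsProper)
  obtain ⟨S, hS, M, -, -, -, -, -, -, h7, -, -⟩ := exists_model_of_props (𝟙 A) P2 P2 P2 hP2 hP2' hP2 hP2' hP2 hP2'
  have hs : Smooth M.G₀.hom := h7 0 ‹_›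
  have hp : IsProper M.G₀.hom := h7 1 ‹_›
  have i1 : ∀ (i j : (FGSub Λ)ᵒᵖ) (φ : i ⟶ j), IsAffineHom ((specDiagram Λ).map φ) :=
    fun i j φ => inferInstance
  have i2 : ∀ i, CompactSpace ((specDiagram Λ).obj i) := fun i => inferInstance
  have i3 : ∀ i, QuasiSeparatedSpace ((specDiagram Λ).obj i) := fun i => inferInstance
  obtain ⟨i2, ⟨N⟩⟩ := CalgA.LimFP.Mdl.exists_model (isLimitCone Λ) X.hom
  let i1 : (FGSub Λ)ᵒᵖ := op ⟨S, hS⟩
  obtain ⟨i, a1, a2, -⟩ := IsCofilteredOrEmpty.cone_objs i1 i2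
  let A₁ : Over ((specDiagram Λ).obj i1) := M.G₀
  let _ : GrpObj A₁ := M.grpG
  let ε₁ : Red.bc ((cone Λ).π.app i1) A₁ ≅ A := M.eG
  have hε₁ : IsMonHom ε₁.hom := M.isMonHomG
  have h1 := isMonHom_theta ((cone Λ).π.app i) ((cone Λ).π.app i1) ((cone Λ).w a1) A₁
  have hs1 : Smooth A₁.hom := hs
  have hp1 : IsProper A₁.hom := hp
  refine ⟨i, Red.bc ((specDiagram Λ).map a1) A₁, Over.mk (N.bc a2).f, inferInstance,
    theta ((cone Λ).π.app i) ((cone Λ).π.app i1) ((cone Λ).w a1) A₁ ≪≫ ε₁, mdlIso (N.bc a2), ?_, ?_, ?_,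
    (N.bc a2).lfp, (N.bc a2).qc, (N.bc a2).qs⟩
  · rw [Iso.trans_hom]
    infer_instance
  · exact inferInstanceAs (Smooth (pullback.snd A₁.hom _))
  · exact inferInstanceAs (IsProper (pullback.snd A₁.hom _))

set_option backward.isDefEq.respectTransparency.types false in
theorem isAffineHom_gm (S : Scheme.{u}) : IsAffineHom (Red.Gm S).hom := by
  have h1 : IsAffineHom (Red.diag (ULift.{u} ℤ) ℤ).hom :=
    inferInstanceAs (IsAffineHom (Spec.map (CommRingCat.ofHom
      (algebraMap (ULift.{u} ℤ) (MonoidAlgebra (ULift.{u} ℤ) (Multiplicative ℤ))))))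
  exact MorphismProperty.pullback_snd _ _ h1

set_option backward.isDefEq.respectTransparency.types false in
theorem lfp_gm (S : Scheme.{u}) : LocallyOfFinitePresentation (Red.Gm S).hom := by
  have h1 : LocallyOfFinitePresentation (Red.diag (ULift.{u} ℤ) ℤ).hom := by
    change LocallyOfFinitePresentation (Spec.map (CommRingCat.ofHom
      (algebraMap (ULift.{u} ℤ) (MonoidAlgebra (ULift.{u} ℤ) (Multiplicative ℤ)))))
    rw [HasRingHomProperty.Spec_iff (P := @LocallyOfFinitePresentation)]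
    have h2 : Algebra.FiniteType (ULift.{u} ℤ) (MonoidAlgebra (ULift.{u} ℤ) (Multiplicative ℤ)) :=
      inferInstance
    have h3 : IsNoetherianRing (ULift.{u} ℤ) := isNoetherianRing_of_ringEquiv ℤ ULift.ringEquiv.symm
    exact RingHom.finitePresentation_algebraMap.2 (Algebra.FinitePresentation.of_finiteType.1 h2)
  exact MorphismProperty.pullback_snd _ _ h1

/-- **Noetherian models.** -/
theorem exists_noetherian_model {Λ : Type u} [CommRing Λ] (A : Over (Spec (CommRingCat.of Λ))) [GrpObj A]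
    [Smooth A.hom] [IsProper A.hom] [GeometricallyConnected A.hom]
    (X : Over (Spec (CommRingCat.of Λ))) [IsAffine X.left] (p : X ⟶ Red.Gm (Spec (CommRingCat.of Λ)))
    [Smooth p.left] [Surjective p.left] (c : Coc A p) :
    ∃ (Λ₀ : Type u) (_ : CommRing Λ₀) (_ : IsNoetherianRing Λ₀) (A₀ : Over (Spec (CommRingCat.of Λ₀)))
      (_ : GrpObj A₀) (_ : IsCommMonObj A₀) (_ : Smooth A₀.hom) (_ : IsProper A₀.hom)
      (_ : GeometricallyConnected A₀.hom) (X₀ : Over (Spec (CommRingCat.of Λ₀))) (_ : IsAffine X₀.left)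
      (p₀ : X₀ ⟶ Red.Gm (Spec (CommRingCat.of Λ₀))) (_ : Smooth p₀.left) (_ : Surjective p₀.left)
      (c₀ : Coc A₀ p₀), ∀ n : ℕ, c₀.Sol n → c.Sol n := by
  have i1 : ∀ (i j : (FGSub Λ)ᵒᵖ) (φ : i ⟶ j), IsAffineHom ((specDiagram Λ).map φ) :=
    fun i j φ => inferInstance
  have i2 : ∀ i, CompactSpace ((specDiagram Λ).obj i) := fun i => inferInstance
  have i3 : ∀ i, QuasiSeparatedSpace ((specDiagram Λ).obj i) := fun i => inferInstance
  have g1 := isAffineHom_gm (Spec (CommRingCat.of Λ))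
  have g2 := lfp_gm (Spec (CommRingCat.of Λ))
  have hX1 : LocallyOfFinitePresentation X.hom := by
    rw [← Over.w p]
    infer_instance
  have hX2 : IsAffineHom X.hom := isAffineHom_of_isAffine _
  obtain ⟨i, A₀, X₀, _, εA, εX, hA1, hA2, hA3, hX3, hX4, hX5⟩ := exists_init A X
  have t2 := lfp_gm ((specDiagram Λ).obj i)
  obtain ⟨j, p₁, ⟨m₁⟩⟩ := exists_p (isLimitCone Λ) p εA εX (gmIso ((cone Λ).π.app i))
  let A₁ := Red.bc ((specDiagram Λ).map j.hom) A₀
  let X₁ := Red.bc ((specDiagram Λ).map j.hom) X₀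
  let T₁ := Red.Gm ((specDiagram Λ).obj j.left)
  let p₂ : X₁ ⟶ T₁ := p₁ ≫ (gmIso ((specDiagram Λ).map j.hom)).hom
  let m₂ : Cmp ((cone Λ).π.app j.left) A₁ p₂ A p := changeT m₁ (gmIso ((specDiagram Λ).map j.hom))
  have x1 : LocallyOfFinitePresentation X₁.hom := bc_lfp _ _ hX3
  have x2 : QuasiCompact X₁.hom := bc_qc _ _ hX4
  have x3 : QuasiSeparated X₁.hom := bc_qs _ _ hX5
  have t1 := isAffineHom_gm ((specDiagram Λ).obj j.left)
  have t3 := lfp_gm ((specDiagram Λ).obj j.left)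
  have a1 : Smooth A₁.hom := inferInstanceAs (Smooth (pullback.snd A₀.hom _))
  have a2 : IsProper A₁.hom := inferInstanceAs (IsProper (pullback.snd A₀.hom _))
  have a3 : GeometricallyReduced A₁.hom := K448.SmoothConn.geometricallyReduced _
  let P2 : Fin 2 → MorphismProperty Scheme.{u} := ![@Smooth, @Surjective]
  have hP2 : ∀ a, DescendsLim (P2 a) := by
    intro a
    fin_cases a
    · exact LimSmooth.descendsLim_smooth
    · exact K286.Desc.descendsLim_surjective
  have hP2' : ∀ a, (P2 a).IsStableUnderBaseChange := by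
    intro a
    fin_cases a
    · exact inferInstanceAs (MorphismProperty.IsStableUnderBaseChange @Smooth)
    · exact inferInstanceAs (MorphismProperty.IsStableUnderBaseChange @Surjective)
  obtain ⟨k, cc', h1, h2, h3, h4⟩ := exists_main (isLimitCone Λ) c m₂ P2 (fun _ : Unit => @IsAffineHom)
    hP2 hP2' (fun _ => K286.Desc.descendsLim_isAffineHom)
    (fun _ => inferInstanceAs (MorphismProperty.IsStableUnderBaseChange @IsAffineHom)) (by
      intro a
      fin_cases a
      · exact ‹Smooth p.left›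
      · exact ‹Surjective p.left›) (fun _ => hX2) ‹_›
  let D := specDiagram Λ
  let A₂ : Over (D.obj k.left) := Red.bc (D.map k.hom) A₁
  let X₂ : Over (D.obj k.left) := Red.bc (D.map k.hom) X₁
  have b1 : Smooth A₂.hom := inferInstanceAs (Smooth (pullback.snd A₁.hom _))
  have b2 : IsProper A₂.hom := inferInstanceAs (IsProper (pullback.snd A₁.hom _))
  have b3 : GeometricallyReduced A₂.hom := K448.SmoothConn.geometricallyReduced _
  have b4 : GeometricallyConnected A₂.hom := h3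
  have b5 : IsCommMonObj A₂ := K448.PointedHom.isCommMonObj A₂
  have c1 : IsAffineHom X₂.hom := h2 ()
  have c2 : IsAffine (D.obj k.left) := inferInstance
  have c3 : IsAffine X₂.left := isAffine_of_isAffineHom X₂.hom
  let e := gmIso (D.map k.hom)
  have e1 : IsIso e.hom.left := inferInstanceAs (IsIso ((Over.forget _).map e.hom))
  let p₃ : X₂ ⟶ Red.Gm (D.obj k.left) := (Over.pullback (D.map k.hom)).map p₂ ≫ e.hom
  have s1 : Smooth ((Over.pullback (D.map k.hom)).map p₂).left := h1 0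
  have s2 : Surjective ((Over.pullback (D.map k.hom)).map p₂).left := h1 1
  have s3 : Smooth p₃.left := by
    change Smooth (((Over.pullback (D.map k.hom)).map p₂).left ≫ e.hom.left)
    infer_instance
  have s4 : Surjective p₃.left := by
    change Surjective (((Over.pullback (D.map k.hom)).map p₂).left ≫ e.hom.left)
    infer_instance
  let c₀ : Coc A₂ p₃ := mapT ((Stage.refl (D.map k.hom) p₂).toC cc') e.hom
  have hN : IsNoetherianRing k.left.unop.1 := by
    have := (Subalgebra.fg_iff_finiteType _).1 k.left.unop.2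
    exact Algebra.FiniteType.isNoetherianRing ℤ _
  exact ⟨k.left.unop.1, inferInstance, hN, A₂, inferInstance, b5, b1, b2, b4, X₂, c3, p₃, s3, s4, c₀, fun n h =>
    h4 n (Cmp.sol_of_toC _ _ (sol_of_mapT _ _ h))⟩

end K297.Noeth
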