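import Groth.Agent.AbSch.K630.Coc
import Groth.Agent.AbSch.K297.Rel

/-!
# `n`-splittings of extensions spread out

`D` an extension of `T` by `A`, `p : X ⟶ T` a covering with a section `e` of `D.E` over `p`.
* `SolP c V n`: `n` times the cocycle `c` is a coboundary over `V`;
* `solP_of_ns`, `ns_of_solP`: there is an `n`-splitting over `V` iff `SolP (D.coc p e he) V n`;
* `exists_ns`: an `n`-splitting over a cofiltered limit comes from a stage.
-/

set_option autoImplicit false
set_option backward.isDefEq.respectTransparency false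
universe u
open CategoryTheory CategoryTheory.Limits MonoidalCategory CartesianMonoidalCategory MonObj AlgebraicGeometry Opposite

noncomputable section

namespace K297.Spread

open Groth.Agent.Etdl.H432.Sec K452.HomPts K771.HomEv K630.AbExt LimHom K297.Rel
open Groth.Agent.Sga3.H515.ParGrp Groth.Agent.Sga3.H515.StageExt

variable {S : Scheme.{u}}

/-- `n` times the cocycle is a coboundary over `V`. -/
def SolP {T X A : Over S} [GrpObj T] [GrpObj A] {p : X ⟶ T} (c : Coc A p) (V : Over S) (n : ℕ) : Prop :=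
  ∃ a : X ⊗ V ⟶ A, ∀ {W : Over S} (t : W ⟶ V) (x y z : W ⟶ X) (h : (x ≫ p) * (y ≫ p) = z ≫ p),
    ap a t x * ap a t y = ap a t z * c.b x y z h ^ n

lemma coc_congr {T X A : Over S} [GrpObj T] [GrpObj A] {p : X ⟶ T} (c : Coc A p) {W : Over S}
    {x x' y y' z z' : W ⟶ X} (h : (x ≫ p) * (y ≫ p) = z ≫ p) (h' : (x' ≫ p) * (y' ≫ p) = z' ≫ p)
    (e2 : x = x') (e3 : y = y') (e4 : z = z') : c.b x y z h = c.b x' y' z' h' := by
  subst e2 e3 e4
  rfl

/-- Solutions over a cofiltered limit come from a stage. -/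
theorem exists_solP {T X A : Over S} [GrpObj T] [GrpObj A] {p : X ⟶ T} (cc : Coc A p)
    [LocallyOfFinitePresentation A.hom] (hX : qcqs S X) (hT : QuasiSeparated T.hom)
    {J : Type u} [SmallCategory J] [IsCofiltered J] (F : J ⥤ Over S) (c : Cone F)
    [∀ {i j : J} (φ : i ⟶ j), IsAffineHom (F.map φ).left] [∀ j, CompactSpace (F.obj j).left]
    [∀ j, QuasiSeparatedSpace (F.obj j).left] (hc : IsLimit ((Over.forget S).mapCone c)) (n : ℕ)
    (h : SolP cc c.pt n) : ∃ j, SolP cc (F.obj j) n := by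
  have hE : HasExt c (qcqs S) A := hasExt F c hc A
  have hU : HasUniq c (qcqs S) A := hasUniq F c hc A
  have hR : qcqs S (R p) := qcqs_R p hX hT
  obtain ⟨a, ha⟩ := h
  obtain ⟨j, a', ha'⟩ := hE X hX a
  have hxyz : (rx p ≫ p) * (ry p ≫ p) = rz p ≫ p := r_rel p
  let β : R p ⟶ A := cc.b (rx p) (ry p) (rz p) hxyz
  have hβ : ∀ {W : Over S} (x y z : W ⟶ X) (h : (x ≫ p) * (y ≫ p) = z ≫ p), rl p x y z h ≫ β = cc.b x y z h := by
    intro W x y z h
    have h1 : ((rl p x y z h ≫ rx p) ≫ p) * ((rl p x y z h ≫ ry p) ≫ p) = (rl p x y z h ≫ rz p) ≫ p := by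
      rw [rl_x, rl_y, rl_z, h]
    exact (cc.nat _ _ _ _ _ h1).trans (coc_congr cc _ _ (rl_x _ _ _ _ _) (rl_y _ _ _ _ _) (rl_z _ _ _ _ _))
  have e0 : ∀ w : R p ⟶ X, R p ◁ c.π.app j ≫ w ▷ F.obj j ≫ a' = w ▷ c.pt ≫ a := by
    intro w
    rw [← Category.assoc, whisker_exchange, Category.assoc, ha']
    rfl
  have e1 : ∀ w : R p ⟶ X, w ▷ c.pt ≫ a = ap a (snd (R p) c.pt) (fst (R p) c.pt ≫ w) := by
    intro w
    unfold ap
    congr 1
  obtain ⟨k, φ, hk⟩ := hU (R p) hR j ((rx p ▷ F.obj j ≫ a') * (ry p ▷ F.obj j ≫ a'))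
    ((rz p ▷ F.obj j ≫ a') * (fst (R p) (F.obj j) ≫ β) ^ n) (by
      rw [MonObj.comp_mul, MonObj.comp_mul, MonObj.comp_pow, e0, e0, e0, ← Category.assoc, whiskerLeft_fst, e1, e1, e1]
      have h2 : ((fst (R p) c.pt ≫ rx p) ≫ p) * ((fst (R p) c.pt ≫ ry p) ≫ p) =
          (fst (R p) c.pt ≫ rz p) ≫ p := by
        have h3 := congr(fst (R p) c.pt ≫ $hxyz)
        rw [MonObj.comp_mul] at h3
        simpa only [Category.assoc] using h3
      refine (ha _ _ _ _ h2).trans ?_
      rw [← cc.nat _ _ _ _ hxyz h2]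
      rfl)
  refine ⟨k, X ◁ F.map φ ≫ a', fun {W} t x y z h => ?_⟩
  have h1 := congr(lift (rl p x y z h) t ≫ $hk)
  have e2 : ∀ w : R p ⟶ X, lift (rl p x y z h) t ≫ R p ◁ F.map φ ≫ w ▷ F.obj j ≫ a' =
      ap a' (t ≫ F.map φ) (rl p x y z h ≫ w) := by
    intro w
    unfold ap
    rw [← Category.assoc, ← Category.assoc]
    congr 1
    apply CartesianMonoidalCategory.hom_ext
    · rw [Category.assoc, whiskerRight_fst, ← Category.assoc, Category.assoc _ (R p ◁ F.map φ), whiskerLeft_fst,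
        lift_fst, lift_fst]
    · rw [Category.assoc, whiskerRight_snd, Category.assoc, whiskerLeft_snd, ← Category.assoc, lift_snd, lift_snd]
  rw [MonObj.comp_mul, MonObj.comp_mul, MonObj.comp_mul, MonObj.comp_mul, MonObj.comp_pow, MonObj.comp_pow,
    e2, e2, e2, rl_x, rl_y, rl_z] at h1
  rw [res_ap, res_ap, res_ap, h1]
  congr 2
  rw [← Category.assoc (R p ◁ F.map φ), whiskerLeft_fst, ← Category.assoc, lift_fst, hβ]

variable {T A : Over S} [GrpObj T] [IsCommMonObj T] [GrpObj A] [IsCommMonObj A]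

/-- Splittings give solutions. -/
theorem solP_of_ns (D : Dat T A) {X : Over S} (p : X ⟶ T) (e : Γs D.E X) (he : m D.q X e = sec p) {n : ℕ}
    {V : Over S} (h : D.NS n V) : SolP (D.coc p e he) V n := by
  obtain ⟨τ, hτ⟩ := h
  have hs0 : m D.q (X ⊗ V) (n • r D.E (fst X V) e - ev τ (snd X V) (sec (fst X V ≫ p))) = 0 := by
    rw [map_sub, map_nsmul, m_r, he, r_sec, hτ, sub_self]
  obtain ⟨a, ha⟩ := D.exists_i _ hs0
  have key : ∀ {W : Over S} (t : W ⟶ V) (x : W ⟶ X),
      m D.i W (sec (ap (pt a) t x)) = n • r D.E x e - ev τ t (sec (x ≫ p)) := by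
    intro W t x
    have h1 : sec (ap (pt a) t x) = r (P A) (lift x t) a := by
      rw [ap, ← r_sec, sec_pt]
    rw [h1, m_r, ha, map_sub, map_nsmul, r_r, lift_fst, ev_r', r_sec, lift_snd, ← Category.assoc, lift_fst]
  refine ⟨pt a, fun {W} t x y z h => ?_⟩
  apply sec_inj
  apply D.i_inj
  rw [sec_mul, sec_mul, map_add, map_add, sec_pow, map_nsmul, key, key, key, D.i_coc p e he x y z h, ← h, sec_mul,
    map_add, smul_sub, smul_add]
  abel

/-- Solutions give splittings. -/
theorem ns_of_solP (D : Dat T A) {X : Over S} (p : X ⟶ T) [Flat p.left] [LocallyOfFinitePresentation p.left]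
    [Surjective p.left] (e : Γs D.E X) (he : m D.q X e = sec p) {n : ℕ}
    {V : Over S} (h : SolP (D.coc p e he) V n) : D.NS n V := by
  obtain ⟨a, ha⟩ := h
  have hpb : IsPullback (fst X V) (p ▷ V) p (fst T V) := by
    refine ⟨⟨(whiskerRight_fst _ _).symm⟩, ⟨PullbackCone.IsLimit.mk _ (fun s => lift s.fst (s.snd ≫ snd T _)) ?_ ?_ ?_⟩⟩
    · intro s
      exact lift_fst _ _
    · intro s
      apply CartesianMonoidalCategory.hom_ext
      · rw [Category.assoc, whiskerRight_fst, ← Category.assoc, lift_fst]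
        exact s.condition
      · rw [Category.assoc, whiskerRight_snd, lift_snd]
    · intro s w h1 h2
      apply CartesianMonoidalCategory.hom_ext
      · rw [lift_fst, h1]
      · rw [lift_snd, ← h2, Category.assoc, whiskerRight_snd]
  have hpb' := hpb.map (Over.forget S)
  have g1 : Flat (p ▷ V).left := MorphismProperty.of_isPullback hpb' ‹Flat p.left›
  have g2 : LocallyOfFinitePresentation (p ▷ V).left :=
    MorphismProperty.of_isPullback hpb' ‹LocallyOfFinitePresentation p.left›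
  have g3 : Surjective (p ▷ V).left := MorphismProperty.of_isPullback hpb' ‹Surjective p.left›
  have hcov : Dat.Cov (p ▷ V) := Dat.cov_of _
  obtain ⟨σ, hσ, -⟩ := Dat.exists_of_add (D := D) (n := n) (V := V) (p ▷ V) hcov
    (n • r D.E (fst X V) e - m D.i _ (sec a)) (by
      rw [map_sub, map_nsmul, m_r, he, r_sec, D.q_i, sub_zero, whiskerRight_fst]) (by
      intro W x' y' z' h1 h2 h3
      rw [whiskerRight_snd] at h1 h2
      rw [whiskerRight_fst] at h3
      have h3' : ((x' ≫ fst X V) ≫ p) * ((y' ≫ fst X V) ≫ p) = (z' ≫ fst X V) ≫ p := by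
        simpa only [Category.assoc] using h3
      have e1 : ∀ w : W ⟶ X ⊗ V, w ≫ snd X V = z' ≫ snd X V → lift (w ≫ fst X V) (z' ≫ snd X V) = w := by
        intro w hw
        apply CartesianMonoidalCategory.hom_ext
        · rw [lift_fst]
        · rw [lift_snd, hw]
      have e2 : ∀ w : W ⟶ X ⊗ V, w ≫ snd X V = z' ≫ snd X V →
          r D.E w (n • r D.E (fst X V) e - m D.i _ (sec a)) =
          n • r D.E (w ≫ fst X V) e - m D.i W (sec (ap a (z' ≫ snd X V) (w ≫ fst X V))) := by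
        intro w hw
        rw [map_sub, map_nsmul, r_r, ← m_r, r_sec, ap, e1 w hw]
      rw [e2 _ h1, e2 _ h2, e2 _ rfl]
      have h7 := congrArg (fun t => m D.i W (sec t)) (ha (z' ≫ snd X V) _ _ _ h3')
      have h7' : m D.i W (sec (ap a (z' ≫ snd X V) (x' ≫ fst X V))) + m D.i W (sec (ap a (z' ≫ snd X V) (y' ≫ fst X V))) =
          m D.i W (sec (ap a (z' ≫ snd X V) (z' ≫ fst X V))) +
            n • (r D.E (x' ≫ fst X V) e + r D.E (y' ≫ fst X V) e - r D.E (z' ≫ fst X V) e) := by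
        rw [← map_add, ← sec_mul, ← D.i_coc p e he _ _ _ h3', ← map_nsmul, ← sec_pow, ← map_add, ← sec_mul]
        exact h7
      rw [smul_sub, smul_add] at h7'
      have h9 := sub_eq_zero.mpr h7'
      rw [← sub_eq_zero, ← neg_eq_zero, ← h9]
      abel)
  exact ⟨σ, hσ⟩

/-- **`n`-splittings over a cofiltered limit come from a stage.** -/
theorem exists_ns [LocallyOfFinitePresentation A.hom] (D : Dat T A) {X : Over S} (p : X ⟶ T)
    (hX : qcqs S X) (hT : QuasiSeparated T.hom) [Flat p.left] [LocallyOfFinitePresentation p.left]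
    [Surjective p.left] (e : Γs D.E X) (he : m D.q X e = sec p) (n : ℕ)
    {J : Type u} [SmallCategory J] [IsCofiltered J] (F : J ⥤ Over S) (c : Cone F)
    [∀ {i j : J} (φ : i ⟶ j), IsAffineHom (F.map φ).left] [∀ j, CompactSpace (F.obj j).left]
    [∀ j, QuasiSeparatedSpace (F.obj j).left] (hc : IsLimit ((Over.forget S).mapCone c))
    (h : D.NS n c.pt) : ∃ j, D.NS n (F.obj j) := by
  obtain ⟨j, hj⟩ := exists_solP (D.coc p e he) hX hT F c hc n (solP_of_ns D p e he h)
  exact ⟨j, ns_of_solP D p e he hj⟩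

end K297.Spread
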