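import Groth.Agent.AbSch.K297.Spread

/-!
# `n`-splittings spread out from `Spec Λ_𝔭` to `Spec Λ_f`
-/

set_option autoImplicit false
universe u
open CategoryTheory CategoryTheory.Limits MonoidalCategory CartesianMonoidalCategory MonObj AlgebraicGeometry Opposite
  Groth.Agent.Etdl.H432.Sec K452.HomPts K771.HomEv K630.AbExt

namespace K297.SpreadNS

open K297.Spread K297.LimHom Groth.Agent.Sga3.H515.StageExt

/-- The local scheme at a point of an affine scheme maps to the spectrum of the localization. -/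
theorem nonempty_stalk_hom {Λ : Type u} [CommRing Λ] (𝔭 : Ideal Λ) [h𝔭 : 𝔭.IsPrime] :
    Nonempty (Over.mk ((Spec (CommRingCat.of Λ)).fromSpecStalk (⟨𝔭, h𝔭⟩ : PrimeSpectrum Λ)) ⟶
      Over.mk (Spec.map (CommRingCat.ofHom (algebraMap Λ (Localization.AtPrime 𝔭))))) := by
  let s : Spec (CommRingCat.of Λ) := (⟨𝔭, h𝔭⟩ : PrimeSpectrum Λ)
  let g : Λ →+* (Spec (CommRingCat.of Λ)).presheaf.stalk s :=
    (StructureSheaf.toStalk (CommRingCat.of Λ) s).hom
  have hg : ∀ y : 𝔭.primeCompl, IsUnit (g y) := fun y => by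
    let k : Algebra Λ ((Spec (CommRingCat.of Λ)).presheaf.stalk s) := StructureSheaf.stalkAlgebra Λ s
    have h1 : IsLocalization.AtPrime ((Spec (CommRingCat.of Λ)).presheaf.stalk s) 𝔭 :=
      StructureSheaf.IsLocalization.to_stalk Λ s
    exact IsLocalization.map_units (M := 𝔭.primeCompl) ((Spec (CommRingCat.of Λ)).presheaf.stalk s) y
  let φ : Localization.AtPrime 𝔭 →+* (Spec (CommRingCat.of Λ)).presheaf.stalk s := IsLocalization.lift hg
  have hφ : φ.comp (algebraMap Λ (Localization.AtPrime 𝔭)) = g := IsLocalization.lift_comp hg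
  refine ⟨Over.homMk (Spec.map (CommRingCat.ofHom φ)) ?_⟩
  change Spec.map (CommRingCat.ofHom φ) ≫ Spec.map (CommRingCat.ofHom (algebraMap Λ (Localization.AtPrime 𝔭))) =
    (Spec (CommRingCat.of Λ)).fromSpecStalk s
  rw [Spec.fromSpecStalk_eq', ← Spec.map_comp, ← CommRingCat.ofHom_comp, hφ]
  rfl

/-- Small basic open sets. -/
theorem exists_away_hom {Λ : Type u} [CommRing Λ] (𝔭 : Ideal Λ) [h𝔭 : 𝔭.IsPrime]
    (U : (Spec (CommRingCat.of Λ)).Opens) (hU : (⟨𝔭, h𝔭⟩ : PrimeSpectrum Λ) ∈ U) :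
    ∃ f : Λ, f ∉ 𝔭 ∧ Nonempty (Over.mk (Spec.map (CommRingCat.ofHom (algebraMap Λ (Localization.Away f)))) ⟶
      Over.mk (Scheme.Opens.ι U)) := by
  obtain ⟨_, ⟨_, ⟨f, rfl⟩, rfl⟩, hf, hfU⟩ := PrimeSpectrum.isBasis_basic_opens.exists_subset_of_mem_open hU U.2
  refine ⟨f, hf, ⟨Over.homMk (IsOpenImmersion.lift (Scheme.Opens.ι U)
    (Spec.map (CommRingCat.ofHom (algebraMap Λ (Localization.Away f)))) ?_) (IsOpenImmersion.lift_fac _ _ _)⟩⟩
  rw [Scheme.Opens.range_ι]
  have h1 : Set.range (Spec.map (CommRingCat.ofHom (algebraMap Λ (Localization.Away f)))) =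
      (PrimeSpectrum.basicOpen f : Set (PrimeSpectrum Λ)) := PrimeSpectrum.localization_away_comap_range _ f
  rw [h1]
  exact hfU

/-- **`n`-splittings spread out from the spectrum of a local ring.** -/
theorem spread_ns {Λ : Type u} [CommRing Λ] {T A : Over (Spec (CommRingCat.of Λ))} [GrpObj T] [IsCommMonObj T]
    [GrpObj A] [IsCommMonObj A] [LocallyOfFinitePresentation A.hom] (D : Dat T A)
    (X : Over (Spec (CommRingCat.of Λ))) [IsAffine X.left] (p : X ⟶ T) [Smooth p.left] [Surjective p.left]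
    [QuasiSeparated T.hom]
    (e : Γs D.E X) (he : m D.q X e = sec p) (n : ℕ) (𝔭 : Ideal Λ) [h𝔭 : 𝔭.IsPrime]
    (h : D.NS n (Over.mk (Spec.map (CommRingCat.ofHom (algebraMap Λ (Localization.AtPrime 𝔭)))))) :
    ∃ f : Λ, f ∉ 𝔭 ∧ D.NS n (Over.mk (Spec.map (CommRingCat.ofHom (algebraMap Λ (Localization.Away f))))) := by
  let S := Spec (CommRingCat.of Λ)
  let s : S := (⟨𝔭, h𝔭⟩ : PrimeSpectrum Λ)
  obtain ⟨a⟩ := nonempty_stalk_hom 𝔭
  have h1 : D.NS n (nhdC S s).pt := h.restrict a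
  have i1 : ∀ {i j : K248.StalkLim.Nhd S s} (φ : i ⟶ j), IsAffineHom ((nhdF S s).map φ).left := by
    intro i j φ
    have h2 : IsAffine ((nhdF S s).obj i).left := i.2.1
    have h3 : IsAffine ((nhdF S s).obj j).left := j.2.1
    exact isAffineHom_of_isAffine _
  have i2 : ∀ j, CompactSpace ((nhdF S s).obj j).left := by
    intro j
    have h3 : IsAffine ((nhdF S s).obj j).left := j.2.1
    infer_instance
  have i3 : ∀ j, QuasiSeparatedSpace ((nhdF S s).obj j).left := by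
    intro j
    have h3 : IsAffine ((nhdF S s).obj j).left := j.2.1
    infer_instance
  have hXa : IsAffineHom X.hom := isAffineHom_of_isAffine _
  obtain ⟨U, hU⟩ := exists_ns D p ⟨inferInstance, inferInstance⟩ inferInstance e he n (nhdF S s) (nhdC S s)
    (isLimitNhdC S s) h1
  obtain ⟨f, hf, ⟨b⟩⟩ := exists_away_hom 𝔭 U.1 U.2.2
  exact ⟨f, hf, hU.restrict b⟩

end K297.SpreadNS
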