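import Groth.Agent.AbSch.K297.Cmp
import Groth.Agent.Sga3.H515.GrpModel
import Groth.Agent.Ega43.GeomFibre
import Groth.Agent.S1335
import Groth.Agent.S1364

/-!
# Cocycles, properties of `p : X ⟶ T` and geometric connectedness descend to a stage of a cofiltered limit

* `isMonHom_theta`, `theta_naturality`: transitivity of base change;
* `BcCoc.Cmp.down`: models at a later stage;
* `exists_map_prop`, `exists_geomConn`, `exists_main`.
-/

set_option autoImplicit false
set_option backward.isDefEq.respectTransparency false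
universe u
open CategoryTheory CategoryTheory.Limits MonoidalCategory CartesianMonoidalCategory MonObj GrpObj AlgebraicGeometry Opposite

noncomputable section

namespace K297.Stage

open Groth.Agent Groth.Agent.Sga3.H515 K297.Rel K297.BcCoc K630.AbExt ParGrp BcRaw StageExt GrpStage GrpModel Sga3B.BcPts
  Ega43.LimitDescend Ega43.LimitDescendIso

section Theta

variable {S S' S'' : Scheme.{u}} {f : S' ⟶ S} (g : S'' ⟶ S') (f' : S'' ⟶ S) (hgf : g ≫ f = f')

/-- Transitivity of base change is a homomorphism. -/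
theorem isMonHom_theta (G : Over S) [GrpObj G] : IsMonHom (theta g f' hgf G).hom := by
  refine Sga3B.Pts.isMonHom_of_points _ fun Z x y => ?_
  apply (bcEquiv f' Z G).symm.injective
  have e1 : (bcEquiv f' Z G).symm ((x ≫ (theta g f' hgf G).hom) * (y ≫ (theta g f' hgf G).hom)) =
      (bcEquiv f' Z G).symm (x ≫ (theta g f' hgf G).hom) * (bcEquiv f' Z G).symm (y ≫ (theta g f' hgf G).hom) :=
    (bcMulEquiv f' Z G).symm.map_mul _ _
  rw [e1, symm_comp_theta, symm_comp_theta, symm_comp_theta, ← MonObj.comp_mul]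
  have e2 : (bcEquiv g Z (Red.bc f G)).symm (x * y) = (bcEquiv g Z (Red.bc f G)).symm x *
      (bcEquiv g Z (Red.bc f G)).symm y := (bcMulEquiv g Z (Red.bc f G)).symm.map_mul _ _
  have e3 : ∀ {W : Over S'} (a b : W ⟶ Red.bc f G), (bcEquiv f W G).symm (a * b) =
      (bcEquiv f W G).symm a * (bcEquiv f W G).symm b := fun a b => (bcMulEquiv f _ G).symm.map_mul _ _
  rw [e2, e3]

lemma theta_naturality {X Y : Over S} (w : X ⟶ Y) :
    (Over.pullback g).map ((Over.pullback f).map w) ≫ (theta g f' hgf Y).hom =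
      (theta g f' hgf X).hom ≫ (Over.pullback f').map w := by
  apply (bcEquiv f' _ Y).symm.injective
  have e1 := symm_comp_theta (G := X) g f' hgf (𝟙 _)
  rw [Category.id_comp] at e1
  have e2 := bcEquiv_symm_comp g (𝟙 (Red.bc g (Red.bc f X))) ((Over.pullback f).map w)
  rw [Category.id_comp] at e2
  rw [bcEquiv_symm_comp, e1, symm_comp_theta, e2, bcEquiv_symm_comp, Category.assoc]

include hgf in
/-- Properties of a base change pass to a further base change. -/
lemma prop_map {P : MorphismProperty Scheme.{u}} [P.IsStableUnderBaseChange] {X Y : Over S} (w : X ⟶ Y)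
    (h : P ((Over.pullback f).map w).left) : P ((Over.pullback f').map w).left := by
  have := MorphismProperty.IsStableUnderBaseChange.respectsIso (P := P)
  refine (prop_iff_of_iso (theta g f' hgf X) (theta g f' hgf Y) _ _ (theta_naturality g f' hgf w)).mp ?_
  exact P.of_isPullback (isPullback_map_left g _) h

include hgf in
/-- Properties of the structure morphism of a base change pass to a further base change. -/
lemma prop_bc {P : MorphismProperty Scheme.{u}} [P.IsStableUnderBaseChange] {X : Over S}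
    (h : P (Red.bc f X).hom) : P (Red.bc f' X).hom := by
  have := MorphismProperty.IsStableUnderBaseChange.respectsIso (P := P)
  have h1 : P (Red.bc g (Red.bc f X)).hom := P.pullback_snd _ _ h
  have h2 : (theta g f' hgf X).hom.left ≫ (Red.bc f' X).hom = (Red.bc g (Red.bc f X)).hom := Over.w _
  rw [← h2] at h1
  have : IsIso (theta g f' hgf X).hom.left := inferInstanceAs (IsIso ((Over.forget _).map (theta g f' hgf X).hom))
  exact (P.cancel_left_of_respectsIso _ _).mp h1

variable {T₀ X₀ A₀ : Over S} [GrpObj T₀] [GrpObj A₀] {p₀ : X₀ ⟶ T₀} {T X A : Over S''} [GrpObj T] [GrpObj A]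
  {p : X ⟶ T}

/-- The model at a later stage. -/
def down (m : Cmp f' A₀ p₀ A p) : Cmp g (Red.bc f A₀) ((Over.pullback f).map p₀) A p :=
  have h1 := isMonHom_theta g f' hgf A₀
  have h2 := isMonHom_theta g f' hgf T₀
  { eA := theta g f' hgf A₀ ≪≫ m.eA
    eX := theta g f' hgf X₀ ≪≫ m.eX
    eT := theta g f' hgf T₀ ≪≫ m.eT
    monA := by rw [Iso.trans_hom]; infer_instance
    monT := by rw [Iso.trans_hom]; infer_instance
    w := by
      rw [Iso.trans_hom, Iso.trans_hom, ← Category.assoc, theta_naturality, Category.assoc, m.w, Category.assoc] }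

/-- The tautological model. -/
def refl (f : S' ⟶ S) {T₀ X₀ A₀ : Over S} [GrpObj T₀] [GrpObj A₀] (p₀ : X₀ ⟶ T₀) :
    Cmp f A₀ p₀ (Red.bc f A₀) ((Over.pullback f).map p₀) where
  eA := Iso.refl _
  eX := Iso.refl _
  eT := Iso.refl _
  monA := by rw [Iso.refl_hom]; infer_instance
  monT := by rw [Iso.refl_hom]; infer_instance
  w := by rw [Iso.refl_hom, Iso.refl_hom, Category.comp_id, Category.id_comp]

end Theta

variable {I : Type u} [SmallCategory I] {D : I ⥤ Scheme.{u}} {c : Cone D} {i : I}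

variable [IsCofiltered I] [∀ (i j : I) (f : i ⟶ j), IsAffineHom (D.map f)]
    [∀ i, CompactSpace (D.obj i)] [∀ i, QuasiSeparatedSpace (D.obj i)]

/-- Properties of a morphism descend. -/
theorem exists_map_prop (hc : IsLimit c) {P : MorphismProperty Scheme.{u}} [P.IsStableUnderBaseChange]
    (hP : DescendsLim P) {X₀ T₀ : Over (D.obj i)} (p₀ : X₀ ⟶ T₀)
    [LocallyOfFinitePresentation X₀.hom] [QuasiCompact X₀.hom] [QuasiSeparated X₀.hom]
    [LocallyOfFinitePresentation T₀.hom] [QuasiCompact T₀.hom] [QuasiSeparated T₀.hom]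
    (h : P ((Over.pullback (c.π.app i)).map p₀).left) :
    ∃ k : Over i, P ((Over.pullback (D.map k.hom)).map p₀).left := by
  have := MorphismProperty.IsStableUnderBaseChange.respectsIso (P := P)
  have c1 : LocallyOfFinitePresentation (p₀.left ≫ T₀.hom) := by rwa [Over.w p₀]
  have c2 : QuasiCompact (p₀.left ≫ T₀.hom) := by rwa [Over.w p₀]
  have c3 : QuasiSeparated (p₀.left ≫ T₀.hom) := by rwa [Over.w p₀]
  obtain ⟨i', φ, Xi, Yi, fi, gi, pY, pX, hpY, hpX, hfi⟩ := exists_descend_of_descendsLim' hP D c hc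
    i p₀.left T₀.hom ((Over.pullback (c.π.app i)).map p₀).left (pullback.snd T₀.hom (c.π.app i))
    (pullback.fst T₀.hom (c.π.app i)) (pullback.fst X₀.hom (c.π.app i))
    (IsPullback.of_hasPullback _ _) (isPullback_map_left (c.π.app i) p₀) h
  refine ⟨Over.mk φ, ?_⟩
  have h1 : IsPullback (pullback.fst T₀.hom (D.map φ)) (pullback.snd T₀.hom (D.map φ)) T₀.hom
    (D.map φ) := .of_hasPullback _ _
  exact prop_of_isPullback_of_isPullback (P := P) hpX (isPullback_map_left (D.map φ) p₀)
    (hpY.isoIsPullback _ _ h1) (hpY.isoIsPullback_hom_fst _ _ h1) hfi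

/-- Geometric connectedness of the fibres of a proper flat morphism with geometrically reduced fibres descends. -/
theorem exists_geomConn (hc : IsLimit c) {A : Over c.pt} {A₀ : Over (D.obj i)} [IsProper A₀.hom] [Flat A₀.hom]
    [LocallyOfFinitePresentation A₀.hom] [GeometricallyReduced A₀.hom] (ε : Red.bc (c.π.app i) A₀ ≅ A)
    (h : GeometricallyConnected A.hom) :
    ∃ k : Over i, GeometricallyConnected (Red.bc (D.map k.hom) A₀).hom := by
  let U : (D.obj i).Opens := ⟨{s | MoreMor.nGeomConnComp A₀.hom s = 1},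
    (S1364.result A₀.hom).isOpen_fiber 1⟩
  obtain ⟨j, φ, hφ⟩ := exists_map_eq_top D c hc (i := i) U (by
    rw [eq_top_iff]
    intro x _
    have h1 := S1335.result A₀.hom A.hom _ _ (isPullback_ε ε) x
    exact h1.symm.trans (Ega43.GeomFibre.nGeomConnComp_eq_one _ _
      ((GeometricallyConnected.iff_geometricallyConnected_fiber _).1 h x)))
  refine ⟨Over.mk φ, ?_⟩
  rw [GeometricallyConnected.iff_geometricallyConnected_fiber]
  intro s
  apply Ega43.GeomFibre.geometricallyConnected_of_nGeomConnComp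
  have h1 : s ∈ D.map φ ⁻¹ᵁ U := by
    rw [hφ]
    trivial
  exact (S1335.result A₀.hom (Red.bc (D.map φ) A₀).hom _ _ (IsPullback.of_hasPullback A₀.hom (D.map φ)) s).trans h1

/-- Restriction of the parameters. -/
def res {S : Scheme.{u}} {T X A V V' : Over S} [GrpObj T] [GrpObj A] {p : X ⟶ T} (cc : PCoc A V p) (s : V' ⟶ V) :
    PCoc A V' p where
  b t x y z h := cc.b (t ≫ s) x y z h
  nat k t x y z h h' := by
    rw [cc.nat k _ _ _ _ h h']
    exact cc.b_congr _ _ (Category.assoc _ _ _).symm rfl rfl rfl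
  symm t x y z h h' := cc.symm _ _ _ _ _ _
  assoc t x y z u v w h₁ h₂ h₃ h₄ := cc.assoc _ _ _ _ _ _ _ _ _ _ _

/-- **Descent of a cocycle together with properties.** -/
theorem exists_main (hc : IsLimit c) {T X A : Over c.pt} [GrpObj T] [GrpObj A] {p : X ⟶ T} (cc : Coc A p)
    {A₀ X₀ T₀ : Over (D.obj i)} [GrpObj A₀] [GrpObj T₀] [IsCommMonObj T₀] {p₀ : X₀ ⟶ T₀}
    (m : Cmp (c.π.app i) A₀ p₀ A p)
    [LocallyOfFinitePresentation X₀.hom] [QuasiCompact X₀.hom] [QuasiSeparated X₀.hom]
    [LocallyOfFinitePresentation T₀.hom] [QuasiCompact T₀.hom] [QuasiSeparated T₀.hom]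
    [IsProper A₀.hom] [Flat A₀.hom] [LocallyOfFinitePresentation A₀.hom] [GeometricallyReduced A₀.hom]
    {ιp ιX : Type} [Finite ιp] [Finite ιX] (Pp : ιp → MorphismProperty Scheme.{u})
    (PX : ιX → MorphismProperty Scheme.{u})
    (hPp : ∀ a, DescendsLim (Pp a)) (hPp' : ∀ a, (Pp a).IsStableUnderBaseChange)
    (hPX : ∀ a, DescendsLim (PX a)) (hPX' : ∀ a, (PX a).IsStableUnderBaseChange)
    (hp : ∀ a, Pp a p.left) (hX : ∀ a, PX a X.hom) (hA : GeometricallyConnected A.hom) :
    ∃ (k : Over i) (cc' : PCoc A₀ (Over.mk (D.map k.hom)) p₀),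
      (∀ a, Pp a ((Over.pullback (D.map k.hom)).map p₀).left) ∧ (∀ a, PX a (Red.bc (D.map k.hom) X₀).hom) ∧
      GeometricallyConnected (Red.bc (D.map k.hom) A₀).hom ∧ ∀ n, cc'.Sol n → cc.Sol n := by
  classical
  -- the cocycle
  have i1 : ∀ {i' j : Over i} (φ : i' ⟶ j), IsAffineHom ((stF D i).map φ).left := fun φ =>
    inferInstanceAs (IsAffineHom (D.map φ.left))
  have i2 : ∀ j, CompactSpace ((stF D i).obj j).left := fun j =>
    inferInstanceAs (CompactSpace (D.obj j.left))
  have i3 : ∀ j, QuasiSeparatedSpace ((stF D i).obj j).left := fun j =>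
    inferInstanceAs (QuasiSeparatedSpace (D.obj j.left))
  have hX₀ : qcqs (D.obj i) X₀ := ⟨inferInstance, inferInstance⟩
  obtain ⟨k1, cc1, h1⟩ := exists_stage (T := T₀) (X := X₀) (A := A₀) (p := p₀) (J := Over i)
    hX₀ inferInstance (stF D i) (stC i c) (isLimitOverCone c hc i) (m.toP cc)
  -- properties of `p`
  have h2 : ∀ a, ∃ k : Over i, Pp a ((Over.pullback (D.map k.hom)).map p₀).left := by
    intro a
    have := hPp' a
    have := MorphismProperty.IsStableUnderBaseChange.respectsIso (P := Pp a)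
    exact exists_map_prop hc (hPp a) p₀ ((prop_iff_of_iso m.eX m.eT _ _ m.w).mpr (hp a))
  have h3 : ∀ a, ∃ k : Over i, PX a (Red.bc (D.map k.hom) X₀).hom := by
    intro a
    exact exists_stage_prop hc (hPX a) m.eX (hX a)
  obtain ⟨k4, h4⟩ := exists_geomConn hc m.eA hA
  choose k2 hk2 using h2
  choose k3 hk3 using h3
  have := Fintype.ofFinite ιp
  have := Fintype.ofFinite ιX
  let O : Finset (Over i) := Finset.univ.image k2 ∪ Finset.univ.image k3 ∪ {k1, k4}
  obtain ⟨k, hk⟩ := IsCofiltered.inf_objs_exists O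
  have hw : ∀ {k' : Over i} (b : k ⟶ k'), D.map b.left ≫ D.map k'.hom = D.map k.hom := by
    intro k' b
    rw [← D.map_comp, Over.w b]
  obtain ⟨b1⟩ : Nonempty (k ⟶ k1) := hk (by simp [O])
  obtain ⟨b4⟩ : Nonempty (k ⟶ k4) := hk (by simp [O])
  refine ⟨k, res cc1 (tr b1), fun a => ?_, fun a => ?_, ?_, fun n h => ?_⟩
  · obtain ⟨b⟩ : Nonempty (k ⟶ k2 a) := hk (by simp [O])
    have := hPp' a
    exact prop_map (D.map b.left) (D.map k.hom) (hw b) p₀ (hk2 a)
  · obtain ⟨b⟩ : Nonempty (k ⟶ k3 a) := hk (by simp [O])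
    have := hPX' a
    exact prop_bc (D.map b.left) (D.map k.hom) (hw b) (hk3 a)
  · exact prop_bc (P := @GeometricallyConnected) (D.map b4.left) (D.map k.hom) (hw b4) h4
  · refine m.sol_of_toP cc (PCoc.Sol.of_eq (pr c k) (fun t x y z h => ?_) h)
    refine Eq.trans ?_ (h1 t x y z h)
    refine cc1.b_congr _ _ ?_ rfl rfl rfl
    rw [Category.assoc]
    congr 1
    exact pr_tr c b1

end K297.Stage
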